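import Cfsg.Agent.H18.DegreeGraphPSL2
import Cfsg.Agent.H58.ThreeDegreePrimes
import Cfsg.Agent.H4.NoDiv.Main
import Cfsg.Agent.H16.PF10Aux

/-!
General facts on the degree graph: transport, sections, abelian and central subgroups, products,
and a criterion for a prime to divide a degree.
-/

set_option autoImplicit false
set_option linter.style.haveILetI false
set_option linter.unusedSectionVars false

open Cfsg
open scoped ComplexConjugate

namespace H4.SmallOrder.Graph

universe u v

theorem degreePrimes_congr {A : Type u} {B : Type v} [Group A] [Group B] (e : A ≃* B) :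
    degreePrimes A = degreePrimes B := by
  unfold degreePrimes; rw [H18.charDegrees_congr e]

theorem degreeGraph_congr {A : Type u} {B : Type v} [Group A] [Group B] (e : A ≃* B) :
    degreeGraph A = degreeGraph B := by
  ext p q
  show (p ≠ q ∧ _) ↔ (p ≠ q ∧ _)
  rw [H18.charDegrees_congr e]

variable {G : Type u} [Group G] [Finite G] {p q : ℕ}

theorem adj_of_degree (χ : IrrCharacter G) (hne : p ≠ q) (hp : p.Prime) (hq : q.Prime)
    (h : p * q ∣ H12.degree (χ : G → ℂ)) : (degreeGraph G).Adj p q :=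
  ⟨hne, hp, hq, _, ⟨χ, rfl⟩, h⟩

theorem exists_of_mem (h : p ∈ degreePrimes G) :
    ∃ χ : IrrCharacter G, p ∣ H12.degree (χ : G → ℂ) := by
  obtain ⟨-, d, ⟨χ, rfl⟩, hd⟩ := h
  exact ⟨χ, hd⟩

theorem exists_of_adj (h : (degreeGraph G).Adj p q) :
    ∃ χ : IrrCharacter G, p * q ∣ H12.degree (χ : G → ℂ) := by
  obtain ⟨-, -, -, d, ⟨χ, rfl⟩, hd⟩ := h
  exact ⟨χ, hd⟩

theorem dvd_card_of_mem (h : p ∈ degreePrimes G) : p ∣ Nat.card G := by
  obtain ⟨χ, hχ⟩ := exists_of_mem h
  haveI := Fintype.ofFinite G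
  exact hχ.trans (H12.irr_degree_dvd_card χ)

theorem adj_quotient (N : Subgroup G) [N.Normal] (h : (degreeGraph (G ⧸ N)).Adj p q) :
    (degreeGraph G).Adj p q := by
  obtain ⟨χ, hχ⟩ := exists_of_adj h
  refine adj_of_degree (H12.inflate N χ) h.1 h.2.1 h.2.2.1 ?_
  rw [show H12.degree (H12.inflate N χ : G → ℂ) = H12.degree (χ : G ⧸ N → ℂ) by
    unfold H12.degree; rw [H12.inflate_apply]; rfl]
  exact hχ

theorem adj_normal (N : Subgroup G) [N.Normal] (h : (degreeGraph N).Adj p q) :
    (degreeGraph G).Adj p q := by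
  obtain ⟨θ, hθ⟩ := exists_of_adj h
  obtain ⟨χ, hχ⟩ := H14.exists_degree_dvd N θ
  exact adj_of_degree χ h.1 h.2.1 h.2.2.1 (hθ.trans hχ)

/-- Itô: a prime not dividing the index of an abelian normal subgroup divides no degree. -/
theorem not_mem_of_abelian (A : Subgroup G) [A.Normal] (hA : ∀ a ∈ A, ∀ b ∈ A, a * b = b * a)
    (hp : ¬ p ∣ A.index) : p ∉ degreePrimes G := fun h => by
  obtain ⟨χ, hχ⟩ := exists_of_mem h
  exact hp (hχ.trans (H4.NoDiv.degree_dvd_index A hA χ))

theorem sq_degree_le (Z : Subgroup G) (hZ : ∀ z ∈ Z, ∀ g : G, z * g = g * z) (χ : IrrCharacter G) :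
    H12.degree (χ : G → ℂ) ^ 2 ≤ Z.index := by
  have h := H16.PF10.sq_le_index hZ χ.2
  rw [H12.irr_apply_one, Complex.natCast_re] at h
  exact_mod_cast h

/-- Degrees of an internal direct product. -/
theorem adj_product (M C : Subgroup G) (hcomm : ∀ m ∈ M, ∀ c ∈ C, m * c = c * m)
    (hdis : Disjoint M C) (hcard : Nat.card M * Nat.card C = Nat.card G)
    (hp : p ∈ degreePrimes M) (hq : q ∈ degreePrimes C) (hne : p ≠ q) :
    (degreeGraph G).Adj p q := by
  let f : M × C →* G := M.subtype.noncommCoprod C.subtype fun m c => hcomm m m.2 c c.2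
  have hinj : Function.Injective f := (injective_iff_map_eq_one f).2 fun x hx => by
    have h1 : (x.1 : G) * x.2 = 1 := hx
    have h2 : (x.1 : G) = 1 := Subgroup.disjoint_def.mp hdis x.1.2
      (by rw [eq_inv_of_mul_eq_one_left h1]; exact C.inv_mem x.2.2)
    rw [h2, one_mul] at h1
    exact Prod.ext (Subtype.ext h2) (Subtype.ext h1)
  let e : M × C ≃* G := MulEquiv.ofBijective f
    ((Nat.bijective_iff_injective_and_card f).2 ⟨hinj, by rw [Nat.card_prod, hcard]⟩)
  obtain ⟨α, hα⟩ := exists_of_mem hp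
  obtain ⟨β, hβ⟩ := exists_of_mem hq
  rw [← degreeGraph_congr e]
  refine adj_of_degree ⟨_, H12.isIrrCharacter_extProd α β⟩ hne hp.1 hq.1 ?_
  have h1 : H12.degree (fun x : M × C => (α : M → ℂ) x.1 * (β : C → ℂ) x.2) =
      H12.degree (α : M → ℂ) * H12.degree (β : C → ℂ) := by
    show ⌊((α : M → ℂ) 1 * (β : C → ℂ) 1).re⌋₊ = _
    rw [H12.irr_apply_one, H12.irr_apply_one, ← Nat.cast_mul, Complex.natCast_re, Nat.floor_natCast]
  rw [show H12.degree ((⟨_, H12.isIrrCharacter_extProd α β⟩ : IrrCharacter (M × C)) : M × C → ℂ) =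
    _ from h1]
  exact mul_dvd_mul hα hβ

theorem sub_one_le_excess {ι : Type*} [Fintype ι] {p : ℕ} (hp : p.Prime)
    (hι : Fintype.card ι = p) (a : ι → ℤ) (d : ℤ) (hd : ∑ i, a i = d) (hnd : ¬ (p : ℤ) ∣ d) :
    (p : ℤ) - 1 ≤ p * ∑ i, a i ^ 2 - d ^ 2 := by
  have hp0 : (0 : ℤ) < p := by exact_mod_cast hp.pos
  set t := d / p with ht
  set s := d % p with hs
  have hs0 : 0 < s := lt_of_le_of_ne (Int.emod_nonneg _ hp0.ne')
    fun h => hnd (Int.dvd_of_emod_eq_zero h.symm)
  have hsp : s < p := Int.emod_lt_of_pos _ hp0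
  have hds : d = p * t + s := (Int.mul_ediv_add_emod d p).symm
  have h1 : ∑ i, (a i - t) = s := by
    rw [Finset.sum_sub_distrib, hd, Finset.sum_const, Finset.card_univ, hι, nsmul_eq_mul, hds]
    ring
  have h2 : s ≤ ∑ i, (a i - t) ^ 2 :=
    h1 ▸ Finset.sum_le_sum fun i _ => Int.le_self_sq (a i - t)
  have h3 : ∑ i, (a i - t) ^ 2 = ∑ i, a i ^ 2 - 2 * t * d + p * t ^ 2 := by
    simp only [sub_sq, Finset.sum_add_distrib, Finset.sum_sub_distrib, Finset.sum_const,
      Finset.card_univ, hι, nsmul_eq_mul]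
    rw [show ∑ i, 2 * a i * t = 2 * t * d by
      rw [← hd, Finset.mul_sum]; exact Finset.sum_congr rfl fun i _ => by ring]
  rw [h3] at h2
  have h4 : (0 : ℤ) ≤ (s - 1) * (p - s - 1) := mul_nonneg (by omega) (by omega)
  nlinarith [mul_le_mul_of_nonneg_left h2 hp0.le]

/-- If `p` divides no degree and the nontrivial elements of a subgroup of order `p` have
centralisers of order `p`, there are at most `p` classes. -/
theorem card_classes_le {p : ℕ} (hp : p.Prime) (P : Subgroup G) (hP : Nat.card P = p)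
    (hC : ∀ u ∈ P, u ≠ 1 → Nat.card (Subgroup.centralizer ({u} : Set G)) = p)
    (hnot : p ∉ degreePrimes G) : Nat.card (ConjClasses G) ≤ p := by
  classical
  haveI := Fintype.ofFinite G
  haveI : Fintype P := Fintype.ofFinite _
  haveI : Fact p.Prime := ⟨hp⟩
  haveI : IsCyclic P := isCyclic_of_prime_card hP
  have hcomm : ∀ a b : P, a * b = b * a := fun a b => IsCyclic.commGroup.mul_comm a b
  have hdeg : ∀ θ : IrrCharacter P, (θ : P → ℂ) 1 = 1 := H12.irr_apply_one_of_comm hcomm
  have hk : Fintype.card (IrrCharacter P) = p := by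
    have h := H12.sum_degree_sq (G := P)
    simp only [hdeg, one_pow, Finset.sum_const, Finset.card_univ, nsmul_eq_mul, mul_one] at h
    rw [hP] at h
    exact_mod_cast h
  have hrow : ∀ χ : IrrCharacter G, ∃ z : ℤ, (p : ℤ) - 1 ≤ z ∧
      ∑ u ∈ Finset.univ.erase (1 : P), (χ : G → ℂ) u * conj ((χ : G → ℂ) u) = (z : ℂ) := by
    intro χ
    set f : P → ℂ := fun u => (χ : G → ℂ) u
    have hf : IsCharacter P f := H12.IsCharacter.res (H12.isCharacter_irr χ) P
    choose a ha using fun θ : IrrCharacter P =>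
      H12.IsCharacter.classInner_nat hf (H12.isCharacter_irr θ)
    have hexp : f = ∑ θ : IrrCharacter P, (a θ : ℂ) • (θ : P → ℂ) := by
      conv_lhs => rw [H12.classFunction_eq_sum (H12.IsCharacter.isClassFunction hf)]
      simp only [ha]
    have hd : ∑ θ, (a θ : ℤ) = H12.degree (χ : G → ℂ) := by
      have h := congrFun hexp 1
      simp only [f, Finset.sum_apply, Pi.smul_apply, smul_eq_mul, hdeg, mul_one,
        OneMemClass.coe_one, H12.irr_apply_one] at h
      exact_mod_cast h.symm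
    have hnorm : classInner f f = ∑ θ, ((a θ : ℂ) * (a θ : ℂ)) := by
      rw [hexp, H12.classInner_sum_smul_sum_smul]
      exact Finset.sum_congr rfl fun θ _ => by rw [Complex.conj_natCast]
    rw [H12.classInner_def, hP, inv_mul_eq_iff_eq_mul₀ (Nat.cast_ne_zero.2 hp.ne_zero)] at hnorm
    refine ⟨p * ∑ θ, (a θ : ℤ) ^ 2 - (H12.degree (χ : G → ℂ) : ℤ) ^ 2,
      sub_one_le_excess hp hk _ _ hd fun h => hnot ⟨hp, _, ⟨χ, rfl⟩, Int.natCast_dvd_natCast.1 h⟩, ?_⟩
    rw [← Finset.add_sum_erase _ _ (Finset.mem_univ (1 : P))] at hnorm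
    simp only [f, OneMemClass.coe_one, H12.irr_apply_one, Complex.conj_natCast] at hnorm
    push_cast
    simp only [pow_two]
    linear_combination hnorm
  choose z hz hzsum using hrow
  have htot : ∑ χ : IrrCharacter G, z χ = ((p : ℤ) - 1) * p := by
    have h : ∑ χ : IrrCharacter G, (z χ : ℂ) = (((p : ℤ) - 1) * p : ℤ) := by
      simp only [← hzsum]
      rw [Finset.sum_comm, Finset.sum_congr rfl (g := fun _ => (p : ℂ)) fun u hu => ?_]
      · rw [Finset.sum_const, Finset.card_erase_of_mem (Finset.mem_univ _), Finset.card_univ,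
          ← Nat.card_eq_fintype_card, hP, nsmul_eq_mul, Nat.cast_sub hp.one_le]
        push_cast; ring
      · rw [H12.column_orthogonality, if_pos (IsConj.refl _),
          hC u u.2 fun h => Finset.ne_of_mem_erase hu (Subtype.ext h)]
    exact_mod_cast h
  have hsum := Finset.card_nsmul_le_sum Finset.univ z ((p : ℤ) - 1) fun χ _ => hz χ
  rw [htot, nsmul_eq_mul, Finset.card_univ, mul_comm ((p : ℤ) - 1)] at hsum
  have := le_of_mul_le_mul_right hsum (by have := hp.two_le; omega)
  rw [← H12.card_irrCharacter, Nat.card_eq_fintype_card]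
  exact_mod_cast this

end H4.SmallOrder.Graph
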