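import Cfsg.Agent.H4.SmallOrder.Graph.Sylow

/-!
A non-simple group of order 2520 has a normal subgroup of order five or seven.
-/

set_option autoImplicit false
set_option linter.style.haveILetI false
set_option linter.unusedSectionVars false

open Subgroup

namespace H4.SmallOrder.Graph

universe u

variable {X : Type u} [Group X] [Finite X]

theorem exists_max_normal [Nontrivial X] :
    ∃ N : Subgroup X, N.Normal ∧ N ≠ ⊤ ∧ ∃ _ : N.Normal, IsSimpleGroup (X ⧸ N) := by
  classical
  haveI : Nonempty {N : Subgroup X // N.Normal ∧ N ≠ ⊤} := ⟨⟨⊥, inferInstance, bot_ne_top⟩⟩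
  haveI : Finite {N : Subgroup X // N.Normal ∧ N ≠ ⊤} := inferInstance
  obtain ⟨⟨N, hNn, hNt⟩, hmax⟩ := Finite.exists_max
    fun N : {N : Subgroup X // N.Normal ∧ N ≠ ⊤} => Nat.card N.1
  refine ⟨N, hNn, hNt, hNn, ?_⟩
  haveI : Nontrivial (X ⧸ N) := Finite.one_lt_card_iff_nontrivial.1 (by
    rw [← Subgroup.index_eq_card]
    exact lt_of_le_of_ne (Nat.one_le_iff_ne_zero.2 Subgroup.index_ne_zero_of_finite)
      (fun h => hNt (Subgroup.index_eq_one.1 h.symm)))
  refine ⟨fun K hK => ?_⟩
  by_contra hcon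
  rw [not_or] at hcon
  set L := K.comap (QuotientGroup.mk' N)
  have hKL : L.map (QuotientGroup.mk' N) = K :=
    Subgroup.map_comap_eq_self_of_surjective (QuotientGroup.mk'_surjective N) K
  have hL : L ≠ ⊤ := fun h => hcon.2 (by
    rw [← hKL, h, Subgroup.map_top_of_surjective _ (QuotientGroup.mk'_surjective N)])
  have hNL : N ≤ L := fun x hx => by
    show (QuotientGroup.mk' N) x ∈ K
    rw [QuotientGroup.mk'_apply, (QuotientGroup.eq_one_iff x).2 hx]
    exact K.one_mem
  have hNeq : N = L := Subgroup.eq_of_le_of_card_ge hNL (hmax ⟨L, hK.comap _, hL⟩)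
  refine hcon.1 ?_
  rw [← hKL, ← hNeq, QuotientGroup.map_mk'_self]

theorem card_simple_cases [IsSimpleGroup X] (h : Nat.card X < 6000) :
    (Nat.card X).Prime ∨ Nat.card X ∈ orders := by
  by_cases hp : (Nat.card X).Prime
  · exact .inl hp
  · exact .inr (card_mem_orders (H62.not_comm_of_not_prime hp) h)

theorem ok_of_orders {r : ℕ} (h : Nat.card X < 6000)
    (hd : ∀ d ∈ orders, d ∣ Nat.card X → ¬ r ∣ d) : Ok r X := .inr ⟨h, hd⟩

/-- A normal subgroup of order `r` of a normal subgroup whose order divides `m`. -/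
theorem normal_of_small {r m : ℕ} [Fact r.Prime] (N : Subgroup X) [N.Normal] (hm : m ≠ 0)
    (hNm : Nat.card N ∣ m) (hr : r ∣ Nat.card N) (hr2 : ¬ r ^ 2 ∣ Nat.card X) (h6 : m < 6000)
    (h1 : ∀ d ∈ m.divisors, d % r = 1 → d ≠ 1 → ¬ IsPrimePow d)
    (hd : ∀ d ∈ orders, d ∣ m → ¬ r ∣ d) : ∃ P : Subgroup X, P.Normal ∧ Nat.card P = r :=
  normal_of_normal_sub N hr2 (sylow_normal hr
    (fun h => hr2 (h.trans (Subgroup.card_subgroup_dvd_card N)))
    ((noOne_of_divisors hm h1).of_dvd hNm)
    (ok_of_orders (lt_of_le_of_lt (Nat.le_of_dvd (Nat.pos_of_ne_zero hm) hNm) h6)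
      fun d hd' hdN => hd d hd' (hdN.trans hNm)))

/-- The case of a quotient of order seven. -/
theorem quot_seven (N : Subgroup X) [N.Normal] (hN : N.index = 7) (h5 : 5 ∣ Nat.card N)
    (hd : Nat.card N ∣ 360) (h25 : ¬ 5 ^ 2 ∣ Nat.card X) :
    ∃ P : Subgroup X, P.Normal ∧ (Nat.card P = 5 ∨ Nat.card P = 7) := by
  classical
  haveI : Fact (Nat.Prime 5) := ⟨by norm_num⟩
  haveI : Fact (Nat.Prime 7) := ⟨by norm_num⟩
  have hN7 : ¬ 7 ∣ Nat.card N := fun h => by have := h.trans hd; norm_num at this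
  by_cases hcent : ∀ P : Subgroup X, Nat.card P = 7 → P ≤ centralizer (N : Set X)
  · obtain ⟨P, hP, hPc⟩ := lift_normal' N hN7 hcent
      ⟨⊤, inferInstance, by rw [Subgroup.card_top, ← Subgroup.index_eq_card, hN]⟩
    exact ⟨P, hP, .inr hPc⟩
  push Not at hcent
  obtain ⟨P, hP, hnc⟩ := hcent
  have hn : P ≤ normalizer (N : Set X) := by rw [Subgroup.normalizer_eq_top]; exact le_top
  set C := (centralizer (P : Set X)).subgroupOf N
  have hC1 : C.index ≠ 1 := fun h => hnc (Subgroup.le_centralizer_iff.1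
    (Subgroup.subgroupOf_eq_top.1 (Subgroup.index_eq_one.1 h)))
  have hXc : Nat.card X = 7 * Nat.card N := by rw [← N.card_mul_index, hN, mul_comm]
  have hcop : (Nat.card N).Coprime (Nat.card P) := by
    rw [hP]; exact (((Nat.Prime.coprime_iff_not_dvd (by norm_num)).2 hN7)).symm
  -- the index of `C` is a power of two
  have hodd : ∀ l : ℕ, l.Prime → l ∣ C.index → l = 2 := by
    intro l hl hld
    by_contra hl2
    haveI : Fact l.Prime := ⟨hl⟩
    obtain ⟨Q, hQ⟩ := exists_invariant_sylow P N hP hn hN7 l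
    refine Q.not_dvd_index (hld.trans (Subgroup.index_dvd_of_le fun x hx => ?_))
    have hQc : Nat.card ((Q : Subgroup N).map N.subtype) = Nat.card (Q : Subgroup N) :=
      Subgroup.card_subtype _ _
    obtain ⟨k, hk⟩ := IsPGroup.iff_card.1 Q.2
    have hQd : Nat.card (Q : Subgroup N) ∣ Nat.card N := Subgroup.card_subgroup_dvd_card _
    have hle : ((Q : Subgroup N).map N.subtype) ≤ centralizer (P : Set X) :=
      Subgroup.le_centralizer_iff.1 (centralize_of_pgroup P _ hP hQ
        (hQc ▸ fun h => hN7 (h.trans hQd)) (hQc ▸ ((onlyOne_of_divisors (r := 7) (q := 2) (b := 3)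
          (n := 360) (by norm_num) Nat.prime_two (by decide +kernel)).noOne (hQd.trans hd)
          fun h => hl2 ((Nat.prime_dvd_prime_iff_eq Nat.prime_two hl).1
            (Nat.prime_two.dvd_of_dvd_pow (hk ▸ (dvd_pow_self 2 (by norm_num)).trans h))).symm))
        (l := l) (Q.2.map _))
    exact hle ⟨x, hx, rfl⟩
  have h8 : C.index ∣ 8 := by
    have h360 : C.index ∣ 360 := C.index_dvd_card.trans hd
    have hc : C.index.Coprime 45 := Nat.coprime_of_dvd fun l hl h1 h45 => by
      have := hodd l hl h1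
      subst this
      norm_num at h45
    exact hc.dvd_of_dvd_mul_left (show C.index ∣ 45 * 8 by norm_num; exact h360)
  -- the number of conjugates of `P`
  obtain ⟨S, hS⟩ : ∃ S : Sylow 7 X, (S : Subgroup X) = P := by
    have hPi : ¬ 7 ∣ P.index := fun h => hN7 (by
      have h' := P.card_mul_index
      rw [hP, hXc] at h'
      rwa [Nat.eq_of_mul_eq_mul_left (by norm_num) h'] at h)
    exact ⟨(IsPGroup.of_card (n := 1) (by rw [pow_one, hP])).toSylow hPi, rfl⟩
  set M := normalizer (P : Set X) with hM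
  have hmod : M.index % 7 = 1 := by
    have h := card_sylow_modEq_one 7 X
    rw [Sylow.card_eq_index_normalizer S] at h
    rw [hM, ← hS]
    exact h
  have hMC : (M ⊓ N).subgroupOf N = C := by
    ext ⟨x, hx⟩
    simp only [Subgroup.mem_subgroupOf, Subgroup.mem_inf, C]
    refine ⟨fun h => Subgroup.mem_centralizer_iff.2 fun p hp => ?_, fun h =>
      ⟨Subgroup.centralizer_le_normalizer _ h, hx⟩⟩
    have h1 : x * p * x⁻¹ * p⁻¹ ∈ P :=
      P.mul_mem ((Subgroup.mem_normalizer_iff.1 h.1 p).1 hp) (P.inv_mem hp)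
    have h2 : x * p * x⁻¹ * p⁻¹ ∈ N := by
      rw [show x * p * x⁻¹ * p⁻¹ = x * (p * x⁻¹ * p⁻¹) by group]
      exact N.mul_mem hx ((inferInstance : N.Normal).conj_mem _ (N.inv_mem hx) p)
    exact (commutatorElement_eq_one_iff_mul_comm.1
      (Subgroup.disjoint_def.mp (Subgroup.disjoint_of_coprime_natCard hcop) h2 h1)).symm
  have hMN : Nat.card (M ⊓ N : Subgroup X) * 7 = Nat.card M := by
    have h1 := Subgroup.card_mul_index (N.subgroupOf M)
    rw [Nat.card_congr (Subgroup.subgroupOfEquivOfLe (inf_le_left : M ⊓ N ≤ M)).toEquiv.symm]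
    have h2 : (M ⊓ N).subgroupOf M = N.subgroupOf M := by ext x; simp [Subgroup.mem_subgroupOf]
    rw [h2]
    have h3 : (N.subgroupOf M).index ∣ 7 := hN ▸ Subgroup.relIndex_dvd_index_of_normal N M
    rcases (Nat.dvd_prime (by norm_num)).1 h3 with h | h
    · exfalso
      have hPN : P ≤ N := fun p hp =>
        (Subgroup.subgroupOf_eq_top.1 (Subgroup.index_eq_one.1 h)) (Subgroup.le_normalizer hp)
      exact hN7 (hP ▸ Subgroup.card_dvd_of_le hPN)
    · rw [h] at h1; exact h1
  have hidx : M.index = C.index := by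
    have h1 := M.card_mul_index
    have h2 := C.card_mul_index
    have h3 : Nat.card C = Nat.card (M ⊓ N : Subgroup X) := by
      rw [← hMC]; exact Nat.card_congr (Subgroup.subgroupOfEquivOfLe inf_le_right).toEquiv
    rw [← h3] at hMN
    rw [← hMN, hXc, ← h2] at h1
    refine Nat.eq_of_mul_eq_mul_left (mul_pos (Nat.card_pos (α := C)) (by norm_num : 0 < 7)) ?_
    rw [h1]; ring
  have hC8 : C.index = 8 := by
    rw [hidx] at hmod
    have hle := Nat.le_of_dvd (by norm_num) h8
    interval_cases hCi : C.index <;> simp_all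
  -- the Sylow five subgroup of `C` is normal in `N`
  have hC45 : Nat.card C ∣ 45 := by
    have h2 := C.card_mul_index
    rw [hC8] at h2
    exact Nat.dvd_of_mul_dvd_mul_right (by norm_num : 0 < 8) (by rw [h2]; exact hd)
  have h5C : 5 ∣ Nat.card C := by
    have h2 := C.card_mul_index
    rw [hC8] at h2
    exact (Nat.Coprime.dvd_of_dvd_mul_right (by norm_num) (h2 ▸ h5))
  obtain ⟨Q, hQn, hQ⟩ := sylow_normal (r := 5) (X := C) h5C
    (fun h => by have := h.trans hC45; norm_num at this)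
    ((noOne_of_divisors (n := 45) (by norm_num) (by decide +kernel)).of_dvd hC45)
    (ok_of_orders (lt_of_le_of_lt (Nat.le_of_dvd (by norm_num) hC45) (by norm_num))
      fun d hd1 hd2 => by
        have := hd2.trans hC45
        simp only [orders, Finset.mem_insert, Finset.mem_singleton] at hd1
        rcases hd1 with rfl | rfl | rfl | rfl | rfl | rfl | rfl | rfl | rfl | rfl | rfl <;>
          norm_num at this)
  set R := Q.map C.subtype
  have hRc : Nat.card R = 5 := by rw [Subgroup.card_subtype, hQ]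
  have h25N : ¬ 5 ^ 2 ∣ Nat.card N := fun h => h25 (h.trans (Subgroup.card_subgroup_dvd_card N))
  have hRi : ¬ 5 ∣ R.index := fun h => h25N (by
    rw [← R.card_mul_index, hRc, sq]; exact mul_dvd_mul_left 5 h)
  let T : Sylow 5 N := (IsPGroup.of_card (n := 1) (by rw [pow_one, hRc])).toSylow hRi
  have hTd : Nat.card (Sylow 5 N) ∣ 8 := by
    rw [Sylow.card_eq_index_normalizer T, ← hC8]
    refine Subgroup.index_dvd_of_le fun c hc => Subgroup.mem_normalizer_iff.2 fun x => ⟨?_, ?_⟩
    · rintro ⟨y, hy, rfl⟩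
      exact ⟨⟨c, hc⟩ * y * ⟨c, hc⟩⁻¹, hQn.conj_mem y hy _, rfl⟩
    · rintro ⟨y, hy, hyx⟩
      refine ⟨⟨c, hc⟩⁻¹ * y * ⟨c, hc⟩, by simpa using hQn.conj_mem y hy ⟨c, hc⟩⁻¹, ?_⟩
      simp only [Subgroup.coe_subtype, Subgroup.coe_mul, InvMemClass.coe_inv] at hyx ⊢
      rw [hyx]; group
  have hone : Nat.card (Sylow 5 N) = 1 := by
    have h := card_sylow_modEq_one 5 N
    rw [Nat.ModEq] at h
    have hle := Nat.le_of_dvd (by norm_num) hTd
    interval_cases hT : Nat.card (Sylow 5 N) <;> simp_all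
  haveI : Subsingleton (Sylow 5 N) := (Nat.card_eq_one_iff_unique.1 hone).1
  obtain ⟨P5, hP5, hP5c⟩ := normal_of_normal_sub N h25
    ⟨(T : Subgroup N), inferInstance, hRc⟩
  exact ⟨P5, hP5, .inl hP5c⟩

/-- A non-simple group whose order is a multiple of 35 dividing 2520 has a normal subgroup of
order five or seven. -/
theorem five_or_seven (h35 : 35 ∣ Nat.card X) (hd : Nat.card X ∣ 2520) (hs : ¬ IsSimpleGroup X) :
    ∃ P : Subgroup X, P.Normal ∧ (Nat.card P = 5 ∨ Nat.card P = 7) := by
  suffices ∀ (n : ℕ) (Y : Type u) [Group Y] [Finite Y], Nat.card Y = n → 35 ∣ n → n ∣ 2520 →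
      ¬ IsSimpleGroup Y → ∃ P : Subgroup Y, P.Normal ∧ (Nat.card P = 5 ∨ Nat.card P = 7) from
    this _ X rfl h35 hd hs
  intro n
  induction n using Nat.strong_induction_on with
  | _ n ih =>
  intro Y _ _ hn h35 hd hs
  subst hn
  haveI : Fact (Nat.Prime 5) := ⟨by norm_num⟩
  haveI : Fact (Nat.Prime 7) := ⟨by norm_num⟩
  have h25 : ¬ 5 ^ 2 ∣ Nat.card Y := fun h => by have := h.trans hd; norm_num at this
  have h49 : ¬ 7 ^ 2 ∣ Nat.card Y := fun h => by have := h.trans hd; norm_num at this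
  have hle : Nat.card Y ≤ 2520 := Nat.le_of_dvd (by norm_num) hd
  haveI : Nontrivial Y := Finite.one_lt_card_iff_nontrivial.1
    (lt_of_lt_of_le (by norm_num) (Nat.le_of_dvd Nat.card_pos h35))
  obtain ⟨N, hNn, hNt, _, hsimp⟩ := exists_max_normal (X := Y)
  have hmul : Nat.card N * Nat.card (Y ⧸ N) = Nat.card Y := by
    rw [← Subgroup.index_eq_card, Subgroup.card_mul_index]
  have hqle : Nat.card (Y ⧸ N) < 6000 := by
    have := Nat.le_of_dvd Nat.card_pos (card_quot_dvd N); omega
  rcases card_simple_cases (X := Y ⧸ N) hqle with hl | hT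
  · by_cases h5 : Nat.card (Y ⧸ N) = 5
    · have hN504 : Nat.card N ∣ 504 :=
        Nat.dvd_of_mul_dvd_mul_right (by norm_num : 0 < 5) (by rw [← h5, hmul, h5]; exact hd)
      obtain ⟨P, hP, hPc⟩ := lift_normal (r := 5) N
        (fun h => by have := h.trans hN504; norm_num at this)
        ((noOne_of_divisors (n := 504) (by norm_num) (by decide +kernel)).of_dvd hN504)
        ⟨⊤, inferInstance, by rw [Subgroup.card_top, h5]⟩
      exact ⟨P, hP, .inl hPc⟩
    by_cases h7 : Nat.card (Y ⧸ N) = 7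
    · refine quot_seven N (by rw [Subgroup.index_eq_card, h7]) ?_ ?_ h25
      · refine Nat.Coprime.dvd_of_dvd_mul_right (by norm_num : Nat.Coprime 5 7) ?_
        rw [← h7, hmul]; exact dvd_trans (by norm_num) h35
      · exact Nat.dvd_of_mul_dvd_mul_right (by norm_num : 0 < 7) (by rw [← h7, hmul, h7]; exact hd)
    have h35N : 35 ∣ Nat.card N := by
      have hc5 := (Nat.coprime_primes (by norm_num : Nat.Prime 5) hl).2 (Ne.symm h5)
      have hc7 := (Nat.coprime_primes (by norm_num : Nat.Prime 7) hl).2 (Ne.symm h7)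
      exact (hc5.mul_left hc7).dvd_of_dvd_mul_right (by rw [hmul]; exact h35)
    have hNd : Nat.card N ∣ 2520 := (Subgroup.card_subgroup_dvd_card N).trans hd
    have hlt := card_lt_of_ne_top hNt
    have hNs : ¬ IsSimpleGroup N := fun h => by
      rcases card_simple_cases (X := N) (by omega) with hp | ho
      · rcases (Nat.dvd_prime hp).1 ((by norm_num : 5 ∣ 35).trans h35N) with h1 | h1
        · norm_num at h1
        · have := (by norm_num : 7 ∣ 35).trans h35N
          rw [← h1] at this; norm_num at this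
      · simp only [orders, Finset.mem_insert, Finset.mem_singleton] at ho
        rcases ho with h1 | h1 | h1 | h1 | h1 | h1 | h1 | h1 | h1 | h1 | h1 <;>
          rw [h1] at h35N hlt <;> norm_num at h35N <;> omega
    obtain ⟨P, hP, hPc⟩ := ih _ hlt N rfl h35N hNd hNs
    rcases hPc with hPc | hPc
    · obtain ⟨P', h1, h2⟩ := normal_of_normal_sub N h25 ⟨P, hP, hPc⟩
      exact ⟨P', h1, .inl h2⟩
    · obtain ⟨P', h1, h2⟩ := normal_of_normal_sub N h49 ⟨P, hP, hPc⟩
      exact ⟨P', h1, .inr h2⟩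
  have hTd : Nat.card (Y ⧸ N) ∣ 2520 := (card_quot_dvd N).trans hd
  simp only [orders, Finset.mem_insert, Finset.mem_singleton] at hT
  have hm : ∀ {t m : ℕ}, Nat.card (Y ⧸ N) = t → t * m = 2520 → Nat.card N ∣ m := by
    intro t m ht htm
    refine Nat.dvd_of_mul_dvd_mul_left (k := t) ?_ ?_
    · exact ht ▸ Nat.card_pos
    · rw [htm, mul_comm, ← ht, hmul]; exact hd
  have hr : ∀ {t r : ℕ}, Nat.card (Y ⧸ N) = t → r.Prime → r ∣ 35 → ¬ r ∣ t → r ∣ Nat.card N := by
    intro t r ht hrp hr35 hrt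
    exact (hrp.dvd_mul.1 (hmul ▸ hr35.trans h35)).resolve_right (ht ▸ hrt)
  rcases hT with ht | ht | ht | ht | ht | ht | ht | ht | ht | ht | ht
  · obtain ⟨P, hP, hPc⟩ := normal_of_small (r := 7) N (by norm_num) (hm ht (m := 42) (by norm_num))
      (hr ht (by norm_num) (by norm_num) (by norm_num)) h49 (by norm_num) (by decide +kernel)
      (by decide +kernel)
    exact ⟨P, hP, .inr hPc⟩
  · obtain ⟨P, hP, hPc⟩ := normal_of_small (r := 5) N (by norm_num) (hm ht (m := 15) (by norm_num))
      (hr ht (by norm_num) (by norm_num) (by norm_num)) h25 (by norm_num) (by decide +kernel)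
      (by decide +kernel)
    exact ⟨P, hP, .inl hPc⟩
  · obtain ⟨P, hP, hPc⟩ := normal_of_small (r := 7) N (by norm_num) (hm ht (m := 7) (by norm_num))
      (hr ht (by norm_num) (by norm_num) (by norm_num)) h49 (by norm_num) (by decide +kernel)
      (by decide +kernel)
    exact ⟨P, hP, .inr hPc⟩
  · obtain ⟨P, hP, hPc⟩ := normal_of_small (r := 5) N (by norm_num) (hm ht (m := 5) (by norm_num))
      (hr ht (by norm_num) (by norm_num) (by norm_num)) h25 (by norm_num) (by decide +kernel)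
      (by decide +kernel)
    exact ⟨P, hP, .inl hPc⟩
  all_goals rw [ht] at hTd hmul
  all_goals first
    | (norm_num at hTd; done)
    | (exfalso; refine hs ?_
       have hN1 : N = ⊥ := Subgroup.card_eq_one.1 (by
         have := Nat.card_pos (α := N); nlinarith)
       subst hN1
       exact QuotientGroup.quotientBot.symm.isSimpleGroup)

end H4.SmallOrder.Graph
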