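import Cfsg.Agent.H4.SmallOrder.Graph.Degrees
import Cfsg.Agent.H4.SmallOrder.Graph.Order2520
import Cfsg.Agent.H32.AltAut
import Cfsg.Agent.H59.A5Char
import Cfsg.Agent.H62.Order4320

/-!
A non-simple group of order 360 does not have the degree graph of the alternating group of degree
six.
-/

set_option autoImplicit false
set_option linter.style.haveILetI false
set_option linter.unusedSectionVars false
set_option linter.style.show false

open Cfsg Subgroup
open scoped IsMulCommutative ComplexConjugate commutatorElement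

namespace H4.SmallOrder.Graph

universe u

variable {X : Type u} [Group X] [Finite X]

theorem central_of_card_two (Z : Subgroup X) [Z.Normal] (hZ : Nat.card Z = 2) :
    ∀ z ∈ Z, ∀ g : X, z * g = g * z := by
  intro z hz g
  by_cases hz1 : z = 1
  · simp [hz1]
  have hall : ∀ y : Z, y = 1 ∨ y = ⟨z, hz⟩ := by
    intro y
    by_contra hy
    rw [not_or] at hy
    haveI := Fintype.ofFinite Z
    classical
    have h3 : ({1, y, ⟨z, hz⟩} : Finset Z).card ≤ 2 := by
      refine (Finset.card_le_univ _).trans ?_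
      rw [← Nat.card_eq_fintype_card, hZ]
    rw [Finset.card_insert_of_notMem (by
        simp only [Finset.mem_insert, Finset.mem_singleton, not_or]
        exact ⟨fun h => hy.1 h.symm, fun h => hz1 (congrArg Subtype.val h).symm⟩),
      Finset.card_insert_of_notMem (by simp only [Finset.mem_singleton]; exact hy.2),
      Finset.card_singleton] at h3
    omega
  rcases hall ⟨g * z * g⁻¹, (inferInstance : Z.Normal).conj_mem z hz g⟩ with h | h
  · have h' : g * z * g⁻¹ = 1 := congrArg Subtype.val h
    exact absurd (by rwa [mul_inv_eq_one, mul_eq_left] at h') hz1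
  · have h' : g * z * g⁻¹ = z := congrArg Subtype.val h
    exact (mul_inv_eq_iff_eq_mul.1 h').symm

theorem hom_eq_one_of_perfect {A : Type*} [Group A] (hA : ∀ a b : A, a * b = b * a)
    (hperf : commutator X = ⊤) (f : X →* A) (x : X) : f x = 1 := by
  have hle : commutator X ≤ f.ker := by
    rw [commutator_def, Subgroup.commutator_le]
    intro a _ b _
    rw [MonoidHom.mem_ker, commutatorElement_def, map_mul, map_mul, map_mul, map_inv, map_inv,
      hA (f a) (f b)]
    group
  exact MonoidHom.mem_ker.1 (hle (hperf.symm ▸ Subgroup.mem_top x))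

/-- A perfect group with order not divisible by 27 has no normal subgroup of order three. -/
theorem no_normal_three (hperf : commutator X = ⊤) (h27 : ¬ 3 ^ 3 ∣ Nat.card X)
    (A : Subgroup X) [A.Normal] (hA : Nat.card A = 3) : False := by
  haveI : Fact (Nat.Prime 3) := ⟨Nat.prime_three⟩
  haveI : IsCyclic A := isCyclic_of_prime_card hA
  have hAut : ∀ a b : MulAut A, a * b = b * a := fun a b => by
    apply (IsCyclic.mulAutMulEquiv A).injective
    rw [map_mul, map_mul, mul_comm]
  have hcent : ∀ z ∈ A, ∀ g : X, g * z = z * g := fun z hz g => by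
    have h := hom_eq_one_of_perfect hAut hperf (MulAut.conjNormal (H := A)) g
    have h' := congrArg Subtype.val (DFunLike.congr_fun h ⟨z, hz⟩)
    rw [MulAut.conjNormal_apply] at h'
    exact mul_inv_eq_iff_eq_mul.1 h'
  obtain ⟨Q, hAQ⟩ := (IsPGroup.of_card (n := 1) (show Nat.card A = 3 ^ 1 by rw [pow_one, hA])
    ).exists_le_sylow
  obtain ⟨k, hk⟩ := IsPGroup.iff_card.1 Q.2
  have hk2 : k < 3 := by
    by_contra hlt
    exact h27 ((pow_dvd_pow 3 (not_lt.1 hlt)).trans (hk ▸ Subgroup.card_subgroup_dvd_card _))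
  haveI hQc : IsMulCommutative (Q : Subgroup X) := by
    refine ⟨⟨?_⟩⟩
    rcases (show k = 0 ∨ k = 1 ∨ k = 2 by omega) with rfl | rfl | rfl
    · intro a b
      haveI : Subsingleton (Q : Subgroup X) :=
        (Nat.card_eq_one_iff_unique.1 (by rw [hk]; rfl)).1
      exact Subsingleton.elim _ _
    · haveI : IsCyclic (Q : Subgroup X) := isCyclic_of_prime_card (p := 3) (by rw [hk, pow_one])
      exact fun a b => IsCyclic.commGroup.mul_comm a b
    · exact fun a b => (IsPGroup.commGroupOfCardEqPrimeSq hk).mul_comm a b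
  haveI : Nontrivial A := Finite.one_lt_card_iff_nontrivial.1 (by omega)
  obtain ⟨⟨z, hz⟩, hz1⟩ := exists_ne (1 : A)
  let φ : (Q : Subgroup X) →* (Q : Subgroup X) := MonoidHom.id _
  have ht := MonoidHom.transfer_eq_pow φ z (fun j g₀ _ => by
    rw [mul_assoc, ← hcent _ (A.pow_mem hz j) g₀, inv_mul_cancel_left])
  rw [hom_eq_one_of_perfect (fun a b => mul_comm a b) hperf (MonoidHom.transfer φ) z] at ht
  have hzi : z ^ (Q : Subgroup X).index = 1 := (congrArg Subtype.val ht).symm
  have hzo : orderOf z = 3 := orderOf_eq_prime (by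
    have : (⟨z, hz⟩ : A) ^ 3 = 1 := by rw [← hA]; exact pow_card_eq_one'
    exact congrArg Subtype.val this) fun h => hz1 (Subtype.ext h)
  have hd := orderOf_dvd_of_pow_eq_one hzi
  rw [hzo] at hd
  exact Q.not_dvd_index hd

theorem not_comm_of_perfect [Nontrivial X] (hperf : commutator X = ⊤) :
    ¬ IsMulCommutative X := fun h => by
  have hbot : commutator X = ⊥ := by
    rw [eq_bot_iff, commutator_def, Subgroup.commutator_le]
    intro a _ b _
    rw [Subgroup.mem_bot, commutatorElement_eq_one_iff_mul_comm]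
    exact h.is_comm.comm a b
  exact bot_ne_top (hbot.symm.trans hperf)

theorem perfect_quotient (N : Subgroup X) [N.Normal] (hperf : commutator X = ⊤) :
    commutator (X ⧸ N) = ⊤ := by
  rw [commutator_def, ← Subgroup.map_top_of_surjective _ (QuotientGroup.mk'_surjective N),
    ← Subgroup.map_commutator, ← commutator_def, hperf]

/-- A nontrivial perfect group of small order has a simple quotient of order in the list. -/
theorem perfect_top [Nontrivial X] (hperf : commutator X = ⊤) (h : Nat.card X < 6000) :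
    ∃ N : Subgroup X, ∃ _ : N.Normal, Nat.card (X ⧸ N) ∈ orders ∧ IsSimpleGroup (X ⧸ N) ∧
      ¬ IsMulCommutative (X ⧸ N) := by
  obtain ⟨N, hNn, hNt, _, hs⟩ := exists_max_normal (X := X)
  refine ⟨N, hNn, ?_⟩
  haveI : Nontrivial (X ⧸ N) := hs.toNontrivial
  have hna := not_comm_of_perfect (perfect_quotient N hperf)
  exact ⟨card_mem_orders hna (lt_of_le_of_lt (Nat.le_of_dvd Nat.card_pos (card_quot_dvd N)) h),
    hs, hna⟩

theorem simple_of_perfect_sixty (hperf : commutator X = ⊤) (h : Nat.card X = 60) :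
    IsSimpleGroup X ∧ ¬ IsMulCommutative X := by
  haveI : Nontrivial X := Finite.one_lt_card_iff_nontrivial.1 (by omega)
  obtain ⟨N, _, ho, hs, -⟩ := perfect_top hperf (by omega)
  have hd : Nat.card (X ⧸ N) ∣ 60 := h ▸ card_quot_dvd N
  simp only [orders, Finset.mem_insert, Finset.mem_singleton] at ho
  rcases ho with h1 | h1 | h1 | h1 | h1 | h1 | h1 | h1 | h1 | h1 | h1 <;>
    rw [h1] at hd <;> (try (norm_num at hd; done))
  have hN : N = ⊥ := Subgroup.card_eq_one.1 (by
    have h2 := N.card_mul_index
    rw [Subgroup.index_eq_card, h1, h] at h2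
    omega)
  subst hN
  exact ⟨QuotientGroup.quotientBot.symm.isSimpleGroup, not_comm_of_perfect hperf⟩

/-- The centraliser of a normal simple subgroup of order 60 absorbs a second factor three. -/
theorem three_dvd_centralizer (M : Subgroup X) [M.Normal] [IsSimpleGroup M]
    (hM : Nat.card M = 60) (h9 : 9 ∣ Nat.card X) :
    3 ∣ Nat.card (centralizer (M : Set X)) := by
  classical
  haveI : Fact (Nat.Prime 3) := ⟨Nat.prime_three⟩
  obtain ⟨e⟩ := H59.simple60_iso hM
  let f : X →* MulAut (alternatingGroup (Fin 5)) :=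
    (MulAut.congr e).toMonoidHom.comp MulAut.conjNormal
  have hker : f.ker ≤ centralizer (M : Set X) := by
    intro g hg
    refine Subgroup.mem_centralizer_iff.2 fun m hm => ?_
    have h1 : MulAut.conjNormal (H := M) g = 1 := (MulAut.congr e).injective (by
      rw [map_one]; exact hg)
    have h' := congrArg Subtype.val (DFunLike.congr_fun h1 ⟨m, hm⟩)
    rw [MulAut.conjNormal_apply] at h'
    exact (mul_inv_eq_iff_eq_mul.1 h').symm
  refine dvd_trans ?_ (Subgroup.card_dvd_of_le hker)
  have hr : ¬ 9 ∣ Nat.card f.range := by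
    intro h
    obtain ⟨T, hT⟩ := Sylow.exists_subgroup_card_pow_prime 3
      (show 3 ^ 2 ∣ Nat.card f.range by simpa using h)
    have hle : T.map f.range.subtype ≤
        (MulAut.conj : alternatingGroup (Fin 5) →* MulAut (alternatingGroup (Fin 5))).range := by
      rintro φ ⟨t, ht, rfl⟩
      refine H32.AltAut.inner_of_odd_order (by simp) _ ?_
      have ho : orderOf (f.range.subtype t) ∣ 3 ^ 2 := by
        rw [← hT, orderOf_injective _ f.range.subtype_injective]
        exact Subgroup.orderOf_dvd_natCard T ht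
      exact (Odd.pow (by decide : Odd 3)).of_dvd_nat ho
    have h9' := Subgroup.card_dvd_of_le hle
    rw [Subgroup.card_subtype] at h9'
    have hcard : Nat.card (MulAut.conj : alternatingGroup (Fin 5) →*
        MulAut (alternatingGroup (Fin 5))).range = 60 := by
      rw [← Nat.card_congr (MonoidHom.ofInjective (H32.AltAut.conj_injective (by simp))).toEquiv,
        ← Nat.card_congr e.toEquiv, hM]
    rw [hcard, hT] at h9'
    norm_num at h9'
  have hmul := f.ker.card_mul_index
  rw [Subgroup.index_ker] at hmul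
  by_contra h3
  exact hr (((Nat.Coprime.pow_left 2 ((Nat.Prime.coprime_iff_not_dvd Nat.prime_three).2 h3))
    ).dvd_of_dvd_mul_left (by rw [hmul]; simpa using h9))

theorem center_simple {K : Subgroup X} [IsSimpleGroup K] (hK : ¬ IsMulCommutative K) {x : X}
    (hx : x ∈ K) (hc : x ∈ centralizer (K : Set X)) : x = 1 := by
  have h : (⟨x, hx⟩ : K) ∈ center K := Subgroup.mem_center_iff.2 fun y =>
    Subtype.ext (Subgroup.mem_centralizer_iff.1 hc y y.2)
  rw [H62.center_eq_bot_of_simple hK, Subgroup.mem_bot] at h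
  exact congrArg Subtype.val h

/-- A finite group all of whose irreducible characters are linear is commutative. -/
theorem comm_of_degrees_one (h : ∀ χ : IrrCharacter X, H12.degree (χ : X → ℂ) = 1) (a b : X) :
    a * b = b * a := by
  haveI := Fintype.ofFinite X
  refine commutatorElement_eq_one_iff_mul_comm.1
    (isConj_one_left.1 (((H12.isConj_iff_irr 1 ⁅a, b⁆).2 fun χ => ?_).symm))
  obtain ⟨l, hl⟩ := H12.exists_monoidHom_of_apply_one_eq_one (H12.isCharacter_irr χ)
    (by rw [H12.irr_apply_one, h χ, Nat.cast_one])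
  rw [← hl]
  simp [map_commutatorElement, commutatorElement_eq_one_iff_mul_comm.2 (mul_comm (l a) (l b))]

theorem two_mem_of_six (h6 : Nat.card X = 6) (hna : ¬ ∀ a b : X, a * b = b * a) :
    2 ∈ degreePrimes X := by
  obtain ⟨χ, hχ⟩ : ∃ χ : IrrCharacter X, H12.degree (χ : X → ℂ) ≠ 1 := by
    by_contra hcon
    push Not at hcon
    exact hna (comm_of_degrees_one hcon)
  have hsq := sq_degree_le (⊥ : Subgroup X) (fun z hz g => by
    rw [Subgroup.mem_bot] at hz; simp [hz]) χ
  rw [Subgroup.index_bot, h6] at hsq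
  have hpos := H12.irr_degree_pos χ
  have hle : H12.degree (χ : X → ℂ) ≤ 2 := by nlinarith
  exact ⟨Nat.prime_two, _, ⟨χ, rfl⟩, dvd_of_eq (show H12.degree (χ : X → ℂ) = 2 by omega).symm⟩

/-- A group of order 120 with a self-centralising simple normal subgroup of order 60 has an edge
joining two and three. -/
theorem adj_of_order_120 (h : Nat.card X = 120) (M : Subgroup X) [M.Normal] [IsSimpleGroup M]
    (hna : ¬ IsMulCommutative M) (hM : Nat.card M = 60)
    (hC : ∀ x ∈ centralizer (M : Set X), x = 1) : (degreeGraph X).Adj 2 3 := by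
  classical
  haveI := Fintype.ofFinite X
  haveI : Fact (Nat.Prime 5) := ⟨by norm_num⟩
  obtain ⟨P⟩ := (inferInstance : Nonempty (Sylow 5 X))
  have hP : Nat.card (P : Subgroup X) = 5 := by
    rw [P.card_eq_multiplicity, h, show (120 : ℕ).factorization 5 = 1 by
      rw [show (120 : ℕ) = 5 ^ 1 * 24 from rfl,
        Nat.factorization_mul (by norm_num) (by norm_num), Finsupp.add_apply,
        (by norm_num : Nat.Prime 5).factorization_pow, Finsupp.single_eq_same,
        Nat.factorization_eq_zero_of_not_dvd (show ¬ 5 ∣ 24 by norm_num)]]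
    rfl
  have hMi : M.index = 2 := by
    have := M.card_mul_index; rw [hM, h] at this; omega
  have hPM : (P : Subgroup X) ≤ M := fun x hx => H4.ManyClasses.mem_of_coprime_index M (by
    rw [hMi]
    exact Nat.Coprime.coprime_dvd_left (hP ▸ Subgroup.orderOf_dvd_natCard _ hx) (by norm_num))
  have hPn : ¬ M ≤ normalizer ((P : Subgroup X) : Set X) := by
    intro hle
    haveI hn : ((P : Subgroup X).subgroupOf M).Normal := Subgroup.normal_subgroupOf_iff_le_normalizer hPM |>.2 hle
    rcases hn.eq_bot_or_eq_top with he | he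
    all_goals
      have h5 := congrArg (fun K : Subgroup M => Nat.card K) he
      simp only [Nat.card_congr (Subgroup.subgroupOfEquivOfLe hPM).toEquiv, hP, hM,
        Subgroup.card_bot, Subgroup.card_top] at h5
      omega
  have h6 : Nat.card (Sylow 5 X) = 6 := by
    have hd : Nat.card (Sylow 5 X) ∣ 24 := by
      have h1 := (P : Subgroup X).card_mul_index
      rw [hP, h] at h1
      exact (show (P : Subgroup X).index = 24 by omega) ▸ Sylow.card_dvd_index P
    have hm := card_sylow_modEq_one 5 X
    rw [Nat.ModEq] at hm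
    have hle := Nat.le_of_dvd (by norm_num) hd
    have hne : Nat.card (Sylow 5 X) ≠ 1 := fun h1 => hPn (by
      rw [Sylow.card_eq_index_normalizer P, Subgroup.index_eq_one] at h1
      exact fun m _ => (h1.symm ▸ Subgroup.mem_top m : m ∈ normalizer (P : Set X)))
    interval_cases hc : Nat.card (Sylow 5 X) <;> simp_all
  let φ : X →* Equiv.Perm (Sylow 5 X) := MulAction.toPermHom X (Sylow 5 X)
  have hinj : Function.Injective φ := by
    rw [← MonoidHom.ker_eq_bot_iff, eq_bot_iff]
    have hfix : ∀ x ∈ φ.ker, ∀ Q : Sylow 5 X, x • Q = Q := fun x hx Q =>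
      Equiv.congr_fun (MonoidHom.mem_ker.1 hx) Q
    have hKM : φ.ker ⊓ M = ⊥ := by
      rcases (inferInstance : (φ.ker.subgroupOf M).Normal).eq_bot_or_eq_top with he | he
      · rw [eq_bot_iff]
        intro x hx
        have : (⟨x, hx.2⟩ : M) ∈ φ.ker.subgroupOf M := hx.1
        rw [he, Subgroup.mem_bot] at this
        exact Subgroup.mem_bot.2 (congrArg Subtype.val this)
      · refine absurd (fun m hm => ?_) hPn
        exact Sylow.smul_eq_iff_mem_normalizer.1
          (hfix m (Subgroup.subgroupOf_eq_top.1 he hm) P)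
    intro x hx
    refine Subgroup.mem_bot.2 (hC x (Subgroup.mem_centralizer_iff.2 fun m hm => ?_))
    refine commutatorElement_eq_one_iff_mul_comm.1 (Subgroup.mem_bot.1 (hKM ▸ ⟨?_, ?_⟩))
    · rw [commutatorElement_def]
      exact φ.ker.mul_mem ((inferInstance : φ.ker.Normal).conj_mem x hx m) (φ.ker.inv_mem hx)
    · rw [commutatorElement_def, show m * x * m⁻¹ * x⁻¹ = m * (x * m⁻¹ * x⁻¹) by group]
      exact M.mul_mem hm ((inferInstance : M.Normal).conj_mem _ (M.inv_mem hm) x)
  obtain ⟨g, hg, hg1, hgo⟩ := H65.exists_sylow_generator P hP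
  have hPz : zpowers g = (P : Subgroup X) := H20.PrimeSylow.zpowers_eq hP hg hg1
  have hCent : centralizer ((P : Subgroup X) : Set X) = (P : Subgroup X) := by
    haveI := Fintype.ofFinite (Sylow 5 X)
    have hgo' : orderOf (φ g) = 5 := by rw [orderOf_injective φ hinj, hgo]
    have hct : (φ g).cycleType = {5} := by
      obtain ⟨n, hn⟩ := Equiv.Perm.cycleType_prime_order (σ := φ g) (hgo'.symm ▸ by norm_num)
      rw [hgo'] at hn
      have hle := (φ g).sum_cycleType.trans_le (Finset.card_le_univ _)
      rw [hn, Multiset.sum_replicate, ← Nat.card_eq_fintype_card, h6, smul_eq_mul] at hle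
      rw [hn, show n = 0 by omega]; rfl
    have hc5 : Nat.card (centralizer ({φ g} : Set (Equiv.Perm (Sylow 5 X)))) = 5 := by
      rw [Equiv.Perm.nat_card_centralizer, hct, ← Nat.card_eq_fintype_card, h6]
      simp
    have hle : (centralizer ((P : Subgroup X) : Set X)).map φ ≤ centralizer ({φ g} : Set _) := by
      rintro _ ⟨x, hx, rfl⟩
      refine mem_centralizer_singleton_iff.2 ?_
      rw [← map_mul, ← map_mul, Subgroup.mem_centralizer_iff.1 hx g hg]
    refine (Subgroup.eq_of_le_of_card_ge (fun x hx => ?_) ?_).symm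
    · refine Subgroup.mem_centralizer_iff.2 fun y hy => ?_
      rw [← hPz] at hx hy
      obtain ⟨i, rfl⟩ := hx
      obtain ⟨j, rfl⟩ := hy
      exact ((Commute.refl g).zpow_zpow j i).eq
    · rw [hP, ← Subgroup.card_map_of_injective hinj]
      exact (Nat.le_of_dvd Nat.card_pos (Subgroup.card_dvd_of_le hle)).trans_eq hc5
  have hN : Nat.card (normalizer ((P : Subgroup X) : Set X)) = 5 * 4 := by
    have h1 := (normalizer ((P : Subgroup X) : Set X)).card_mul_index
    have h2 : (normalizer ((P : Subgroup X) : Set X)).index = 6 :=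
      (Sylow.card_eq_index_normalizer P).symm.trans h6
    rw [h2, h] at h1; omega
  have hconj := H62.isConj_sq_of_normalizer_twenty hP hCent hN hg hg1
  -- a degree divisible by three
  have hns : ¬ Group.IsSolvable X := fun hsol => hna ⟨⟨IsSimpleGroup.comm_iff_isSolvable.2
    (by haveI := hsol; infer_instance)⟩⟩
  have h3 : 3 ∈ degreePrimes X := by
    obtain ⟨p, q, r, hpq, hqr, hpr, hp, hq, hr⟩ := H58.DegPrimes.exists_three hns
    have key : ∀ t ∈ degreePrimes X, t = 2 ∨ t = 3 ∨ t = 5 := fun t ht => by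
      have hd : t ∣ 2 ^ 3 * (3 * 5) := by
        have := dvd_card_of_mem ht; rwa [h] at this
      rcases ht.1.dvd_mul.1 hd with h' | h'
      · exact .inl ((Nat.prime_dvd_prime_iff_eq ht.1 Nat.prime_two).1 (ht.1.dvd_of_dvd_pow h'))
      · rcases ht.1.dvd_mul.1 h' with h' | h'
        · exact .inr (.inl ((Nat.prime_dvd_prime_iff_eq ht.1 Nat.prime_three).1 h'))
        · exact .inr (.inr ((Nat.prime_dvd_prime_iff_eq ht.1 (by norm_num)).1 h'))
    rcases key p hp with rfl | rfl | rfl <;> rcases key q hq with rfl | rfl | rfl <;>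
      rcases key r hr with rfl | rfl | rfl <;> first | assumption | omega
  obtain ⟨χ, hχ⟩ := exists_of_mem h3
  have hd120 : H12.degree (χ : X → ℂ) ∣ 120 := h ▸ H12.irr_degree_dvd_card χ
  have hd10 : H12.degree (χ : X → ℂ) ≤ 10 := by
    have hsq := sq_degree_le (⊥ : Subgroup X) (fun z hz g => by
      rw [Subgroup.mem_bot] at hz; simp [hz]) χ
    rw [Subgroup.index_bot, h] at hsq
    nlinarith
  have hne3 : H12.degree (χ : X → ℂ) ≠ 3 := by
    intro hd
    obtain ⟨e, he, hdvd⟩ := H65.irr_rational_five χ hgo hconj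
    obtain ⟨ψ, hψ⟩ := Fintype.exists_ne_of_one_lt_card (α := IrrCharacter (X ⧸ M)) (by
      have hs := H12.sum_degree_sq_nat (G := X ⧸ M)
      rw [← Subgroup.index_eq_card, hMi] at hs
      by_contra hlt
      have hall : ∀ ψ : IrrCharacter (X ⧸ M), H12.degree (ψ : X ⧸ M → ℂ) = 1 := fun ψ => by
        have := Fintype.card_le_one_iff.1 (not_lt.1 hlt) ψ (H12.oneIrr _)
        rw [this, H4.NoDiv.degree_one_irr]
      simp only [hall, one_pow, Finset.sum_const, Finset.card_univ, smul_eq_mul, mul_one] at hs
      omega) (H12.oneIrr (X ⧸ M))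
    have hψ1 : (ψ : X ⧸ M → ℂ) 1 = 1 := H12.irr_apply_one_of_comm (fun a b => by
      haveI : Fact (Nat.Prime 2) := ⟨Nat.prime_two⟩
      haveI : IsCyclic (X ⧸ M) := isCyclic_of_prime_card (p := 2)
        (by rw [← Subgroup.index_eq_card, hMi])
      exact IsCyclic.commGroup.mul_comm a b) ψ
    set σ := H12.inflate M ψ
    have hσ1 : (σ : X → ℂ) 1 = 1 := by rw [H12.inflate_apply]; exact hψ1
    have hσg : (σ : X → ℂ) g = 1 := by rw [H12.inflate_mem_kernel M ψ (hPM hg), hσ1]
    have hσne : σ ≠ H12.oneIrr X := fun hh => hψ (H12.inflate_injective M (by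
      apply Subtype.ext; funext x
      rw [show H12.inflate M ψ = H12.oneIrr X from hh, H12.oneIrr_apply, H12.inflate_apply,
        H12.oneIrr_apply]))
    have hχne : χ ≠ H12.oneIrr X := fun hh => by rw [hh, H4.NoDiv.degree_one_irr] at hd; omega
    have hχσ : χ ≠ σ := fun hh => by
      have : ((H12.degree (χ : X → ℂ) : ℕ) : ℂ) = 1 := by rw [← H12.irr_apply_one, hh, hσ1]
      rw [hd] at this; norm_num at this
    have hle := Finset.sum_le_univ_sum_of_nonneg
      (f := fun τ : IrrCharacter X => Complex.normSq ((τ : X → ℂ) g))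
      (s := {H12.oneIrr X, σ, χ}) fun τ => Complex.normSq_nonneg _
    have hcol : ∑ τ : IrrCharacter X, Complex.normSq ((τ : X → ℂ) g) = 5 := by
      apply Complex.ofReal_injective
      push_cast
      have hco := H12.column_orthogonality g g
      rw [if_pos (IsConj.refl g), H62.centralizer_eq_of_mem hP hCent hg hg1, hP] at hco
      refine Eq.trans ?_ (hco.trans (by norm_num))
      exact Finset.sum_congr rfl fun τ _ => (Complex.mul_conj _).symm
    rw [hcol, Finset.sum_insert (by simp [hσne.symm, hχne.symm]),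
      Finset.sum_insert (by simp [hχσ.symm]), Finset.sum_singleton, H12.oneIrr_apply, hσg, he,
      Complex.normSq_one, Complex.normSq_intCast] at hle
    rw [hd] at hdvd
    have he2 : e * e ≤ 3 := by exact_mod_cast (by linarith : ((e : ℝ) * e) ≤ 3)
    have : -1 ≤ e ∧ e ≤ 1 := ⟨by nlinarith, by nlinarith⟩
    omega
  refine adj_of_degree χ (by norm_num) Nat.prime_two Nat.prime_three ?_
  obtain ⟨k, hk⟩ := hχ
  rw [hk] at hd10 hne3 hd120 ⊢
  have : k ≤ 3 := by omega
  interval_cases k
  · norm_num at hd120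
  · exact absurd rfl hne3
  · norm_num
  · norm_num at hd120

/-- A perfect subgroup of order 120 with centre of order two. -/
theorem false_of_cover (h : Nat.card X = 360) (M : Subgroup X) [M.Normal]
    (hperf : commutator M = ⊤) (hM : Nat.card M = 120)
    (h25 : (degreeGraph X).Adj 2 5) (M0 : Subgroup M) [M0.Normal] (hM0 : Nat.card M0 = 2) :
    False := by
  classical
  haveI : Fact (Nat.Prime 3) := ⟨Nat.prime_three⟩
  have hQs : IsSimpleGroup (M ⧸ M0) ∧ ¬ IsMulCommutative (M ⧸ M0) := by
    refine simple_of_perfect_sixty (perfect_quotient M0 hperf) ?_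
    have h1 := M0.card_mul_index
    rw [hM0, hM, Subgroup.index_eq_card] at h1; omega
  haveI := hQs.1
  have hcen : center M = M0 := by
    refine le_antisymm (fun z hz => ?_)
      fun z hz => Subgroup.mem_center_iff.2 fun g => (central_of_card_two M0 hM0 z hz g).symm
    rw [← QuotientGroup.eq_one_iff, ← Subgroup.mem_bot, ← H62.center_eq_bot_of_simple hQs.2,
      Subgroup.mem_center_iff]
    intro y
    obtain ⟨y, rfl⟩ := QuotientGroup.mk_surjective y
    rw [← QuotientGroup.mk_mul, ← QuotientGroup.mk_mul, Subgroup.mem_center_iff.1 hz y]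
  haveI : M0.Characteristic := hcen ▸ inferInstance
  set Z := M0.map M.subtype with hZdef
  haveI : Z.Normal := by rw [hZdef]; infer_instance
  have hZ : Nat.card Z = 2 := by rw [hZdef, Subgroup.card_subtype, hM0]
  have hZc := central_of_card_two Z hZ
  have hZM : Z ≤ M := Subgroup.map_subtype_le _
  set mk := QuotientGroup.mk' Z with hmk
  set Mb := M.map mk with hMb
  haveI : Mb.Normal := (inferInstance : M.Normal).map mk (QuotientGroup.mk'_surjective Z)
  have hMbperf : commutator Mb = ⊤ := by
    apply Subgroup.map_injective Mb.subtype_injective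
    rw [Subgroup.map_subtype_commutator, ← MonoidHom.range_eq_map, Subgroup.range_subtype, hMb,
      ← Subgroup.map_commutator, ← Subgroup.map_subtype_commutator, hperf,
      ← MonoidHom.range_eq_map, Subgroup.range_subtype]
  have hH : Nat.card (X ⧸ Z) = 180 := by
    have h1 := Z.card_mul_index
    rw [hZ, h, Subgroup.index_eq_card] at h1; omega
  have hMb60 : Nat.card Mb = 60 := by
    have h1 := Mb.card_mul_index
    have h2 : Mb.index = M.index := by
      rw [hMb, Subgroup.index_map_eq _ (QuotientGroup.mk'_surjective Z) (by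
        rw [QuotientGroup.ker_mk']; exact hZM)]
    have h3 := M.card_mul_index
    rw [hM, h] at h3
    rw [h2, hH, show M.index = 3 by omega] at h1; omega
  obtain ⟨hMbs, -⟩ := simple_of_perfect_sixty hMbperf hMb60
  haveI := hMbs
  have h3 := three_dvd_centralizer Mb hMb60 (by rw [hH]; norm_num)
  -- a preimage of order three
  set L := (centralizer (Mb : Set (X ⧸ Z))).comap mk with hL
  have h3L : 3 ∣ Nat.card L := by
    refine h3.trans ?_
    have hmap : L.map mk = centralizer (Mb : Set (X ⧸ Z)) :=
      Subgroup.map_comap_eq_self_of_surjective (QuotientGroup.mk'_surjective Z) _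
    rw [← hmap]
    exact Subgroup.card_map_dvd L mk
  obtain ⟨⟨c, hcL⟩, hc⟩ := exists_prime_orderOf_dvd_card' (G := L) 3 h3L
  rw [Subgroup.orderOf_mk] at hc
  have hval : ∀ m : M, c * m * c⁻¹ * (m : X)⁻¹ ∈ Z := fun m => by
    rw [← QuotientGroup.eq_one_iff]
    have h1 : mk m * mk c = mk c * mk m :=
      Subgroup.mem_centralizer_iff.1 hcL _ ⟨m, m.2, rfl⟩
    show mk (c * m * c⁻¹ * (m : X)⁻¹) = 1
    rw [map_mul, map_mul, map_mul, map_inv, map_inv, ← h1]; group
  let f : M →* Z :=
    { toFun := fun m => ⟨c * m * c⁻¹ * (m : X)⁻¹, hval m⟩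
      map_one' := by ext; simp
      map_mul' := fun a b => by
        ext
        show c * ((a : X) * b) * c⁻¹ * ((a : X) * b)⁻¹ =
          c * a * c⁻¹ * (a : X)⁻¹ * (c * b * c⁻¹ * (b : X)⁻¹)
        calc c * ((a : X) * b) * c⁻¹ * ((a : X) * b)⁻¹
            = c * a * c⁻¹ * ((c * b * c⁻¹ * (b : X)⁻¹) * (a : X)⁻¹) := by group
          _ = c * a * c⁻¹ * ((a : X)⁻¹ * (c * b * c⁻¹ * (b : X)⁻¹)) := by rw [hZc _ (hval b)]
          _ = _ := by group }
  have hcomm : ∀ m ∈ M, m * c = c * m := fun m hm => by
    have := congrArg Subtype.val (hom_eq_one_of_perfect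
      (fun a b : Z => Subtype.ext (hZc a a.2 b)) hperf f ⟨m, hm⟩)
    have h' : c * m * c⁻¹ * m⁻¹ = 1 := this
    rw [mul_inv_eq_one, mul_inv_eq_iff_eq_mul] at h'
    exact h'.symm
  have hccen : c ∈ center X := by
    have hle : M ≤ centralizer ({c} : Set X) := fun m hm =>
      mem_centralizer_singleton_iff.2 (hcomm m hm)
    have hcM : c ∉ M := fun hcm => by
      have h1 : (⟨c, hcm⟩ : M) ∈ M0 := hcen ▸ Subgroup.mem_center_iff.2 fun m =>
        Subtype.ext (hcomm m m.2)
      have := Subgroup.orderOf_dvd_natCard M0 h1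
      rw [Subgroup.orderOf_mk, hc, hM0] at this
      norm_num at this
    have htop : centralizer ({c} : Set X) = ⊤ := by
      rw [← Subgroup.index_eq_one]
      have hd : (centralizer ({c} : Set X)).index ∣ 3 := by
        have h3 := M.card_mul_index
        rw [hM, h] at h3
        exact (show M.index = 3 by omega) ▸ Subgroup.index_dvd_of_le hle
      refine ((Nat.dvd_prime Nat.prime_three).1 hd).resolve_right fun h1 => hcM ?_
      have hMeq : M = centralizer ({c} : Set X) := Subgroup.eq_of_le_of_card_ge hle (by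
        have h2 := (centralizer ({c} : Set X)).card_mul_index
        rw [h1, h] at h2; omega)
      rw [hMeq]; exact mem_centralizer_singleton_iff.2 rfl
    exact Subgroup.mem_center_iff.2 fun g =>
      mem_centralizer_singleton_iff.1 (htop ▸ Subgroup.mem_top g)
  have hd6 : 6 ∣ Nat.card (center X) := by
    have h1 : 2 ∣ Nat.card (center X) := hZ ▸ Subgroup.card_dvd_of_le
      (show Z ≤ center X from fun z hz => Subgroup.mem_center_iff.2 fun g => (hZc z hz g).symm)
    exact Nat.Coprime.mul_dvd_of_dvd_of_dvd (by norm_num : Nat.Coprime 2 3) h1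
      (hc ▸ Subgroup.orderOf_dvd_natCard _ hccen)
  obtain ⟨χ, hχ⟩ := exists_of_adj h25
  have hsq := sq_degree_le (center X) (fun z hz g => (Subgroup.mem_center_iff.1 hz g).symm) χ
  have h1 := (center X).card_mul_index
  rw [h] at h1
  have h2 := Nat.le_of_dvd Nat.card_pos hd6
  have h3' := Nat.le_of_dvd (H12.irr_degree_pos χ) hχ
  nlinarith

/-- A non-simple group of order 360 cannot have degree edge 2-5 and no edge 2-3. -/
theorem false_of_360 (h : Nat.card X = 360) (hs : ¬ IsSimpleGroup X)
    (h25 : (degreeGraph X).Adj 2 5) (h23 : ¬ (degreeGraph X).Adj 2 3) : False := by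
  classical
  haveI : Fact (Nat.Prime 5) := ⟨by norm_num⟩
  haveI : Fact (Nat.Prime 3) := ⟨Nat.prime_three⟩
  have h5V : 5 ∈ degreePrimes X := by
    obtain ⟨-, -, h5, d, hd, hdd⟩ := h25
    exact ⟨h5, d, hd, (dvd_mul_left 5 2).trans hdd⟩
  have hns : ¬ Group.IsSolvable X := fun hsol => by
    obtain ⟨P, hPn, hP⟩ := sylow_normal (r := 5) (X := X) (by rw [h]; norm_num)
      (by rw [h]; norm_num) (h ▸ noOne_of_divisors (by norm_num) (by decide +kernel)) (.inl hsol)
    haveI := hPn
    refine not_mem_of_abelian P ?_ ?_ h5V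
    · haveI : IsCyclic P := isCyclic_of_prime_card hP
      exact fun a ha b hb => congrArg Subtype.val (IsCyclic.commGroup.mul_comm (⟨a, ha⟩ : P) ⟨b, hb⟩)
    · have h1 := P.card_mul_index
      rw [hP, h] at h1
      rw [show P.index = 72 by omega]; norm_num
  -- the perfect core
  haveI : Nonempty {N : Subgroup X // N.Normal ∧ ¬ Group.IsSolvable N} :=
    ⟨⟨⊤, inferInstance, fun hsol => hns (by
      haveI := hsol
      exact solvable_of_surjective (f := (⊤ : Subgroup X).subtype)
        fun x => ⟨⟨x, Subgroup.mem_top x⟩, rfl⟩)⟩⟩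
  obtain ⟨⟨M, hMn, hMs⟩, hmin⟩ := Finite.exists_min
    fun N : {N : Subgroup X // N.Normal ∧ ¬ Group.IsSolvable N} => Nat.card N.1
  haveI := hMn
  have hperf : commutator M = ⊤ := by
    set D := (commutator M).map M.subtype with hD
    haveI : D.Normal := by rw [hD]; infer_instance
    have hDs : ¬ Group.IsSolvable D := fun hsol => hMs (by
      haveI := hsol
      haveI : Group.IsSolvable (commutator M) := solvable_of_solvable_injective
        (f := ((commutator M).equivMapOfInjective M.subtype M.subtype_injective).toMonoidHom)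
        (MulEquiv.injective _)
      exact solvable_of_ker_le_range (commutator M).subtype Abelianization.of (by
        rw [Abelianization.ker_of, Subgroup.range_subtype]))
    exact Subgroup.eq_top_of_card_eq _ (le_antisymm (Subgroup.card_le_card_group _)
      ((hmin ⟨D, inferInstance, hDs⟩).trans_eq (Subgroup.card_subtype _ _)))
  haveI : Nontrivial M := by
    by_contra hnt
    rw [not_nontrivial_iff_subsingleton] at hnt
    exact hMs inferInstance
  have hMd : Nat.card M ∣ 360 := h ▸ Subgroup.card_subgroup_dvd_card M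
  obtain ⟨M0, _, ho, hq, hqna⟩ := perfect_top hperf
    (lt_of_le_of_lt (Nat.le_of_dvd (by norm_num) hMd) (by norm_num))
  have hmul : Nat.card M0 * Nat.card (M ⧸ M0) = Nat.card M := by
    rw [← Subgroup.index_eq_card, Subgroup.card_mul_index]
  have hqd : Nat.card (M ⧸ M0) ∣ 360 := (card_quot_dvd M0).trans hMd
  simp only [orders, Finset.mem_insert, Finset.mem_singleton] at ho
  rcases ho with h1 | h1 | h1 | h1 | h1 | h1 | h1 | h1 | h1 | h1 | h1 <;>
    rw [h1] at hqd <;> (try (norm_num at hqd; done))
  swap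
  · -- the quotient has order 360
    rw [h1] at hmul
    have hpos := Nat.card_pos (α := M0)
    have hle := Nat.le_of_dvd (by norm_num) hMd
    have hbot : M0 = ⊥ := Subgroup.card_eq_one.1 (by nlinarith)
    subst hbot
    have hMtop : M = ⊤ := Subgroup.eq_top_of_card_eq M (by rw [h]; nlinarith)
    haveI := hq
    haveI : IsSimpleGroup M := QuotientGroup.quotientBot.symm.isSimpleGroup
    subst hMtop
    exact hs Subgroup.topEquiv.symm.isSimpleGroup
  rw [h1] at hmul
  have hd6 : Nat.card M0 ∣ 6 :=
    Nat.dvd_of_mul_dvd_mul_right (by norm_num : 0 < 60) (by rw [hmul]; exact hMd)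
  have h27 : ¬ 3 ^ 3 ∣ Nat.card M := fun hh => by have := hh.trans hMd; norm_num at this
  have h3M0 : ¬ 3 ∣ Nat.card M0 := by
    intro hh
    obtain ⟨A, hAn, hA⟩ := sylow_normal (r := 3) (X := M0) hh
      (fun h9 => by have := h9.trans hd6; norm_num at this)
      ((noOne_of_divisors (n := 6) (by norm_num) (by decide +kernel)).of_dvd hd6)
      (ok_of_orders (lt_of_le_of_lt (Nat.le_of_dvd (by norm_num) hd6) (by norm_num))
        fun d hd1 hd2 => by
          have := hd2.trans hd6
          simp only [orders, Finset.mem_insert, Finset.mem_singleton] at hd1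
          rcases hd1 with rfl | rfl | rfl | rfl | rfl | rfl | rfl | rfl | rfl | rfl | rfl <;>
            norm_num at this)
    have hAi : ¬ 3 ∣ A.index := fun hi => by
      have h9 : 3 * 3 ∣ 6 := (by
        rw [← A.card_mul_index, hA]; exact mul_dvd_mul_left 3 hi : 3 * 3 ∣ Nat.card M0).trans hd6
      norm_num at h9
    let S : Sylow 3 M0 := (IsPGroup.of_card (n := 1) (by rw [pow_one, hA])).toSylow hAi
    haveI : A.Characteristic := Sylow.characteristic_of_normal S hAn
    exact no_normal_three hperf h27 (A.map M0.subtype) (by rw [Subgroup.card_subtype, hA])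
  rcases (Nat.dvd_prime Nat.prime_two).1
    ((show Nat.Coprime (Nat.card M0) 3 from
      (((Nat.Prime.coprime_iff_not_dvd Nat.prime_three).2 h3M0)).symm).dvd_of_dvd_mul_right
      (show Nat.card M0 ∣ 2 * 3 from hd6)) with hc1 | hc2
  swap
  · exact false_of_cover h M hperf (by rw [← hmul, hc2]) h25 M0 hc2
  have hM60 : Nat.card M = 60 := by rw [← hmul, hc1]
  obtain ⟨hMsimp, hMna⟩ := simple_of_perfect_sixty hperf hM60
  haveI := hMsimp
  set C := centralizer (M : Set X) with hC
  haveI : C.Normal := Subgroup.normal_centralizer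
  have hdis : Disjoint M C := Subgroup.disjoint_def.2 fun {x} hx hxc => center_simple hMna hx hxc
  have h3C := three_dvd_centralizer M hM60 (by rw [h]; norm_num)
  have hsup : Nat.card ↥(M ⊔ C) = Nat.card M * Nat.card C := by
    rw [← Nat.card_prod]
    refine (Nat.card_congr (Equiv.ofBijective (fun x : M × C => (⟨x.1.1 * x.2.1,
      Subgroup.mul_mem_sup x.1.2 x.2.2⟩ : ↥(M ⊔ C))) ⟨?_, ?_⟩)).symm
    · exact fun a b hab => Subgroup.mul_injective_of_disjoint hdis (congrArg Subtype.val hab)
    · intro g
      have hg : (g : X) ∈ ((M ⊔ C : Subgroup X) : Set X) := g.2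
      rw [Subgroup.mul_normal] at hg
      obtain ⟨a, ha, b, hb, hab⟩ := hg
      exact ⟨(⟨a, ha⟩, ⟨b, hb⟩), Subtype.ext hab⟩
  have hC6 : Nat.card C ∣ 6 := Nat.dvd_of_mul_dvd_mul_left (by norm_num : 0 < 60) (by
    rw [← hM60, ← hsup, hM60, show 60 * 6 = Nat.card X by rw [h]]
    exact Subgroup.card_subgroup_dvd_card _)
  have hC36 : Nat.card C = 3 ∨ Nat.card C = 6 := by
    have hle := Nat.le_of_dvd (by norm_num) hC6
    obtain ⟨k, hk⟩ := h3C
    rw [← hC] at hk
    have := Nat.card_pos (α := C)
    rw [hk] at hle this ⊢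
    omega
  rcases hC36 with hC3 | hC6'
  · -- the quotient by the centraliser
    refine h23 (adj_quotient C ?_)
    have hH : Nat.card (X ⧸ C) = 120 := by
      have h2 := C.card_mul_index
      rw [hC3, h, Subgroup.index_eq_card] at h2; omega
    set mk := QuotientGroup.mk' C with hmk
    set Mb := M.map mk with hMb
    haveI : Mb.Normal := hMn.map mk (QuotientGroup.mk'_surjective C)
    have hinj : Function.Injective (mk.comp M.subtype) := (injective_iff_map_eq_one _).2 fun m hm =>
      Subtype.ext (Subgroup.disjoint_def.1 hdis m.2 ((QuotientGroup.eq_one_iff _).1 hm))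
    have hrange : (mk.comp M.subtype).range = Mb := by
      rw [MonoidHom.range_comp, Subgroup.range_subtype]
    let e : M ≃* Mb := (MonoidHom.ofInjective hinj).trans (MulEquiv.subgroupCongr hrange)
    haveI : IsSimpleGroup Mb := e.symm.isSimpleGroup
    have hMbna : ¬ IsMulCommutative Mb := fun hh => hMna ⟨⟨fun a b => e.injective (by
      rw [map_mul, map_mul]; exact hh.is_comm.comm _ _)⟩⟩
    refine adj_of_order_120 hH Mb hMbna (by rw [← Nat.card_congr e.toEquiv, hM60]) fun y hy => ?_
    obtain ⟨g, rfl⟩ := QuotientGroup.mk_surjective y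
    refine (QuotientGroup.eq_one_iff g).2 (Subgroup.mem_centralizer_iff.2 fun m hm => ?_)
    have h1' : mk m * mk g = mk g * mk m := Subgroup.mem_centralizer_iff.1 hy _ ⟨m, hm, rfl⟩
    apply commutatorElement_eq_one_iff_mul_comm.1
    refine Subgroup.disjoint_def.1 hdis ?_ ((QuotientGroup.eq_one_iff _).1 ?_)
    · rw [commutatorElement_def, show m * g * m⁻¹ * g⁻¹ = m * (g * m⁻¹ * g⁻¹) by group]
      exact M.mul_mem hm (hMn.conj_mem _ (M.inv_mem hm) g)
    · show mk ⁅m, g⁆ = 1
      rw [map_commutatorElement, commutatorElement_eq_one_iff_mul_comm]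
      exact h1'
  -- a direct product
  have htop : M ⊔ C = ⊤ := Subgroup.eq_top_of_card_eq _ (by rw [hsup, hM60, hC6', h])
  have hMC : ∀ m ∈ M, ∀ c ∈ C, m * c = c * m := fun m hm c hc =>
    Subgroup.mem_centralizer_iff.1 hc m hm
  by_cases hCc : ∀ a ∈ C, ∀ b ∈ C, a * b = b * a
  · have hcen : C ≤ center X := fun c hc => Subgroup.mem_center_iff.2 fun g => by
      have hle : M ⊔ C ≤ centralizer ({c} : Set X) :=
        sup_le (fun m hm => mem_centralizer_singleton_iff.2 (hMC m hm c hc))
          (fun b hb => mem_centralizer_singleton_iff.2 (hCc b hb c hc))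
      exact mem_centralizer_singleton_iff.1 (hle (htop ▸ Subgroup.mem_top g))
    obtain ⟨χ, hχ⟩ := exists_of_adj h25
    have hsq := sq_degree_le C (fun z hz g => (Subgroup.mem_center_iff.1 (hcen hz) g).symm) χ
    have h2 := C.card_mul_index
    rw [hC6', h] at h2
    have h3' := Nat.le_of_dvd (H12.irr_degree_pos χ) hχ
    nlinarith
  refine h23 ?_
  have h3V : 3 ∈ degreePrimes M := by
    obtain ⟨p, q, r, hpq, hqr, hpr, hp, hq, hr⟩ := H58.DegPrimes.exists_three (G := M) hMs
    have key : ∀ t ∈ degreePrimes M, t = 2 ∨ t = 3 ∨ t = 5 := fun t ht => by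
      have hd : t ∣ 2 ^ 2 * (3 * 5) := by
        have := dvd_card_of_mem ht; rwa [hM60] at this
      rcases ht.1.dvd_mul.1 hd with h' | h'
      · exact .inl ((Nat.prime_dvd_prime_iff_eq ht.1 Nat.prime_two).1 (ht.1.dvd_of_dvd_pow h'))
      · rcases ht.1.dvd_mul.1 h' with h' | h'
        · exact .inr (.inl ((Nat.prime_dvd_prime_iff_eq ht.1 Nat.prime_three).1 h'))
        · exact .inr (.inr ((Nat.prime_dvd_prime_iff_eq ht.1 (by norm_num)).1 h'))
    rcases key p hp with rfl | rfl | rfl <;> rcases key q hq with rfl | rfl | rfl <;>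
      rcases key r hr with rfl | rfl | rfl <;> first | assumption | omega
  exact adj_product C M (fun c hc m hm => (hMC m hm c hc).symm) hdis.symm
    (by rw [hC6', hM60, h]) (two_mem_of_six hC6' fun hh => hCc fun a ha b hb =>
      congrArg Subtype.val (hh ⟨a, ha⟩ ⟨b, hb⟩)) h3V (by norm_num)

end H4.SmallOrder.Graph
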