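import Cfsg.Agent.H4.SmallOrder.Graph.Simple
import Cfsg.Agent.H4.SmallOrder.Graph.Order360
import Cfsg.Agent.S0494
import Cfsg.Agent.S3669

/-!
Simple groups of order below 6000 are determined by their order and degree graph.
-/

set_option autoImplicit false
set_option linter.style.haveILetI false
set_option linter.unusedSectionVars false

open Cfsg Subgroup

namespace H4.SmallOrder.Graph

universe u v

variable {X : Type u} [Group X] [Finite X]

theorem isSolvable_of_orders (h : Nat.card X < 6000) (hd : ∀ d ∈ orders, ¬ d ∣ Nat.card X) :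
    Group.IsSolvable X := by
  suffices ∀ (n : ℕ) (Y : Type u) [Group Y] [Finite Y], Nat.card Y = n → n < 6000 →
      (∀ d ∈ orders, ¬ d ∣ n) → Group.IsSolvable Y from this _ X rfl h hd
  intro n
  induction n using Nat.strong_induction_on with
  | _ n ih =>
  intro Y _ _ hn h hd
  subst hn
  rcases subsingleton_or_nontrivial Y with hY | hY
  · infer_instance
  by_cases hs : IsSimpleGroup Y
  · by_cases hc : IsMulCommutative Y
    · exact Group.isSolvable_of_comm fun a b => hc.is_comm.comm a b
    · exact absurd dvd_rfl (hd _ (card_mem_orders hc h))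
  obtain ⟨N, hNn, hN1, hN2⟩ := exists_normal_proper hs
  have h1 : Group.IsSolvable N := ih _ (card_lt_of_ne_top hN2) N rfl
    (lt_of_le_of_lt (Subgroup.card_le_card_group N) h)
    fun d hd' hdN => hd d hd' (hdN.trans (Subgroup.card_subgroup_dvd_card N))
  have h2 : Group.IsSolvable (Y ⧸ N) := ih _ (card_quot_lt hN1) (Y ⧸ N) rfl
    (lt_of_le_of_lt (Nat.le_of_dvd Nat.card_pos (card_quot_dvd N)) h)
    fun d hd' hdN => hd d hd' (hdN.trans (card_quot_dvd N))
  exact Group.isSolvable_of_ker_le_range N.subtype (QuotientGroup.mk' N) (by simp)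

theorem isSolvable_of_nonsimple (hs : ¬ IsSimpleGroup X) (h : Nat.card X < 6000)
    (hd : ∀ d ∈ orders, d ∣ Nat.card X → d = Nat.card X) : Group.IsSolvable X := by
  rcases subsingleton_or_nontrivial X with hX | hX
  · infer_instance
  obtain ⟨N, hNn, hN1, hN2⟩ := exists_normal_proper hs
  have h1 : Group.IsSolvable N := isSolvable_of_orders
    (lt_of_le_of_lt (Subgroup.card_le_card_group N) h) fun d hd' hdN => by
      have hdeq := hd d hd' (hdN.trans (Subgroup.card_subgroup_dvd_card N))
      have := Nat.le_of_dvd Nat.card_pos hdN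
      have := card_lt_of_ne_top hN2
      omega
  have h2 : Group.IsSolvable (X ⧸ N) := isSolvable_of_orders
    (lt_of_le_of_lt (Nat.le_of_dvd Nat.card_pos (card_quot_dvd N)) h) fun d hd' hdN => by
      have hdeq := hd d hd' (hdN.trans (card_quot_dvd N))
      have := Nat.le_of_dvd Nat.card_pos hdN
      have := card_quot_lt hN1
      omega
  exact Group.isSolvable_of_ker_le_range N.subtype (QuotientGroup.mk' N) (by simp)

theorem not_mem_of_normal_prime {r : ℕ} [Fact r.Prime] (h2 : ¬ r ^ 2 ∣ Nat.card X)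
    (h : ∃ P : Subgroup X, P.Normal ∧ Nat.card P = r) : r ∉ degreePrimes X := by
  obtain ⟨P, hPn, hP⟩ := h
  refine not_mem_of_abelian P (fun a ha b hb => ?_) fun hd => h2 ?_
  · haveI : IsCyclic P := isCyclic_of_prime_card hP
    exact congrArg Subtype.val (IsCyclic.commGroup.mul_comm (⟨a, ha⟩ : P) ⟨b, hb⟩)
  · rw [← P.card_mul_index, hP, sq]
    exact mul_dvd_mul_left r hd

/-- A prime `r` with no prime power divisor one modulo it is not a degree prime. -/
theorem false_of_prime {r n : ℕ} [Fact r.Prime] (hn : Nat.card X = n) (hs : ¬ IsSimpleGroup X)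
    (h6 : n < 6000) (hd : r ∣ n) (h2 : ¬ r ^ 2 ∣ n)
    (h1 : ∀ d ∈ n.divisors, d % r = 1 → d ≠ 1 → ¬ IsPrimePow d)
    (ho : ∀ d ∈ orders, d ∣ n → r ∣ d → d = n) (hV : r ∈ degreePrimes X) : False := by
  subst hn
  refine not_mem_of_normal_prime h2 ?_ hV
  haveI : Nontrivial X := Finite.one_lt_card_iff_nontrivial.1
    (lt_of_lt_of_le (Fact.out : r.Prime).one_lt (Nat.le_of_dvd Nat.card_pos hd))
  obtain ⟨N, hNn, hN1, hN2⟩ := exists_normal_proper hs
  have hno := noOne_of_divisors Nat.card_pos.ne' h1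
  have hNd := Subgroup.card_subgroup_dvd_card N
  by_cases hrN : r ∣ Nat.card N
  · refine normal_of_normal_sub N h2 (sylow_normal hrN (fun h => h2 (h.trans hNd))
      (hno.of_dvd hNd) (ok_of_orders (lt_of_le_of_lt (Subgroup.card_le_card_group N) h6)
        fun d hd' hdN hrd => ?_))
    have := ho d hd' (hdN.trans hNd) hrd
    have := Nat.le_of_dvd Nat.card_pos hdN
    have := card_lt_of_ne_top hN2
    omega
  · refine lift_normal N hrN (hno.of_dvd hNd) (sylow_normal
      (not_dvd_card_quot hd (Fact.out : r.Prime) hrN) (fun h => h2 (h.trans (card_quot_dvd N)))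
      (hno.of_dvd (card_quot_dvd N))
      (ok_of_orders (lt_of_le_of_lt (Nat.le_of_dvd Nat.card_pos (card_quot_dvd N)) h6)
        fun d hd' hdN hrd => ?_))
    have := ho d hd' (hdN.trans (card_quot_dvd N)) hrd
    have := Nat.le_of_dvd Nat.card_pos hdN
    have := card_quot_lt hN1
    omega

/-- The solvable exceptional case. -/
theorem false_of_solvable {r q b n : ℕ} [Fact r.Prime] [Group.IsSolvable X]
    (hn : Nat.card X = n) (hq : q.Prime) (hrq : r ≠ q) (hb : 0 < b) (hd : r ∣ n)
    (h2 : ¬ r ^ 2 ∣ n) (hqb : q ^ b ∣ n) (hqb' : ¬ q ^ (b + 1) ∣ n)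
    (h1 : ∀ d ∈ n.divisors, d % r = 1 → d ≠ 1 → d = q ^ b ∨ ¬ IsPrimePow d)
    (hr : r ∈ degreePrimes X) (hq' : q ∈ degreePrimes X) : False := by
  subst hn
  rcases normal_or_abelian hq hrq hb hd h2 hqb hqb'
    (onlyOne_of_divisors Nat.card_pos.ne' hq h1) with h | ⟨K, hKn, hK, hKc⟩
  · exact not_mem_of_normal_prime h2 h hr
  · refine not_mem_of_abelian K hKc (fun hdi => hqb' ?_) hq'
    rw [← K.card_mul_index, hK, pow_succ]
    exact mul_dvd_mul_left _ hdi

/-- A non-simple, non-solvable group of order 504 has an edge joining two and three. -/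
theorem adj_of_504 (h : Nat.card X = 504) (hs : ¬ IsSimpleGroup X)
    (hns : ¬ Group.IsSolvable X) : (degreeGraph X).Adj 2 3 := by
  haveI : Nontrivial X := Finite.one_lt_card_iff_nontrivial.1 (by omega)
  obtain ⟨N, hNn, hN1, hN2⟩ := exists_normal_proper hs
  have hNl := card_lt_of_ne_top hN2
  have hQl := card_quot_lt hN1
  have hNd : Nat.card N ∣ 504 := h ▸ Subgroup.card_subgroup_dvd_card N
  have hQd : Nat.card (X ⧸ N) ∣ 504 := h ▸ card_quot_dvd N
  have hmul : Nat.card N * Nat.card (X ⧸ N) = 504 := by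
    rw [← Subgroup.index_eq_card, Subgroup.card_mul_index, h]
  have small : ∀ (Y : Type u) [Group Y] [Finite Y], Nat.card Y ∣ 504 → Nat.card Y < 504 →
      ¬ 168 ∣ Nat.card Y → Group.IsSolvable Y := by
    intro Y _ _ hd hlt h168
    refine isSolvable_of_orders (by omega) fun d hd' hdY => ?_
    have hd5 := hdY.trans hd
    have hle := Nat.le_of_dvd Nat.card_pos hdY
    simp only [orders, Finset.mem_insert, Finset.mem_singleton] at hd'
    rcases hd' with rfl | rfl | rfl | rfl | rfl | rfl | rfl | rfl | rfl | rfl | rfl <;>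
      first | exact h168 hdY | (norm_num at hd5; done) | omega
  have h168 : ∀ (Y : Type u) [Group Y] [Finite Y], Nat.card Y = 168 → ¬ Group.IsSolvable Y →
      (degreeGraph Y).Adj 2 3 := by
    intro Y _ _ hY hsY
    have : IsSimpleGroup Y := by
      by_contra hss
      exact hsY (isSolvable_of_nonsimple hss (by omega) (by rw [hY]; decide +kernel))
    exact (facts_168 hY).2.2
  rw [h] at hNl hQl
  by_cases hsN : Group.IsSolvable N
  · have hsQ : ¬ Group.IsSolvable (X ⧸ N) := fun hsQ => hns
      (Group.isSolvable_of_ker_le_range N.subtype (QuotientGroup.mk' N) (by simp))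
    have hd168 : 168 ∣ Nat.card (X ⧸ N) := by
      by_contra hh; exact hsQ (small (X ⧸ N) hQd hQl hh)
    refine adj_quotient N (h168 (X ⧸ N) ?_ hsQ)
    obtain ⟨k, hk⟩ := hd168
    rw [hk] at hQl hQd
    have : k < 3 := by omega
    interval_cases k <;> first | omega | norm_num at hQd
  · have hd168 : 168 ∣ Nat.card N := by
      by_contra hh; exact hsN (small N hNd hNl hh)
    refine adj_normal N (h168 N ?_ hsN)
    obtain ⟨k, hk⟩ := hd168
    rw [hk] at hNl hNd
    have : k < 3 := by omega
    interval_cases k <;> first | omega | norm_num at hNd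

/-- A group with the order and degree graph of a simple group of order below 6000 other than 60 is
simple. -/
theorem isSimple_of_graph {S : Type u} [Group S] [Finite S] [IsSimpleGroup S]
    (hS : ¬ IsMulCommutative S) (hlt : Nat.card S < 6000) (h60 : Nat.card S ≠ 60) {G : Type v}
    [Group G] [Finite G] (hcard : Nat.card G = Nat.card S)
    (hP : degreePrimes G = degreePrimes S) (hE : degreeGraph G = degreeGraph S) :
    IsSimpleGroup G := by
  by_contra hs
  have ho := card_mem_orders hS hlt
  simp only [orders, Finset.mem_insert, Finset.mem_singleton] at ho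
  rcases ho with h | h | h | h | h | h | h | h | h | h | h
  · exact h60 h
  · obtain ⟨h2, h7, -⟩ := facts_168 h
    rw [← hP] at h2 h7
    haveI : Fact (Nat.Prime 7) := ⟨by norm_num⟩
    haveI := isSolvable_of_nonsimple hs (by omega) (by rw [hcard, h]; decide +kernel)
    exact false_of_solvable (r := 7) (q := 2) (b := 3) (hcard.trans h) Nat.prime_two (by norm_num)
      (by norm_num) (by norm_num) (by norm_num) (by norm_num) (by norm_num) (by decide +kernel)
      h7 h2
  · obtain ⟨h25, h23⟩ := facts_360 h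
    rw [← hE] at h25 h23
    exact false_of_360 (hcard.trans h) hs h25 h23
  · obtain ⟨h2, h7, h23⟩ := facts_504 h
    rw [← hP] at h2 h7
    rw [← hE] at h23
    haveI : Fact (Nat.Prime 7) := ⟨by norm_num⟩
    by_cases hsol : Group.IsSolvable G
    · exact false_of_solvable (r := 7) (q := 2) (b := 3) (hcard.trans h) Nat.prime_two (by norm_num)
        (by norm_num) (by norm_num) (by norm_num) (by norm_num) (by norm_num) (by decide +kernel)
        h7 h2
    · exact h23 (adj_of_504 (hcard.trans h) hs hsol)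
  · haveI : Fact (Nat.Prime 11) := ⟨by norm_num⟩
    exact false_of_prime (r := 11) (hcard.trans h) hs (by norm_num) (by norm_num) (by norm_num)
      (by decide +kernel) (by decide +kernel) (hP ▸ facts_660 h)
  · haveI : Fact (Nat.Prime 13) := ⟨by norm_num⟩
    exact false_of_prime (r := 13) (hcard.trans h) hs (by norm_num) (by norm_num) (by norm_num)
      (by decide +kernel) (by decide +kernel) (hP ▸ facts_1092 h)
  · haveI : Fact (Nat.Prime 17) := ⟨by norm_num⟩
    exact false_of_prime (r := 17) (hcard.trans h) hs (by norm_num) (by norm_num) (by norm_num)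
      (by decide +kernel) (by decide +kernel) (hP ▸ facts_2448 h)
  · obtain ⟨h5, h7⟩ := facts_2520 h
    rw [← hP] at h5 h7
    haveI : Fact (Nat.Prime 5) := ⟨by norm_num⟩
    haveI : Fact (Nat.Prime 7) := ⟨by norm_num⟩
    obtain ⟨P, hPn, hPc⟩ := five_or_seven (X := G) (by rw [hcard, h]; norm_num)
      (by rw [hcard, h]) hs
    rcases hPc with hPc | hPc
    · exact not_mem_of_normal_prime (by rw [hcard, h]; norm_num) ⟨P, hPn, hPc⟩ h5
    · exact not_mem_of_normal_prime (by rw [hcard, h]; norm_num) ⟨P, hPn, hPc⟩ h7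
  · haveI : Fact (Nat.Prime 19) := ⟨by norm_num⟩
    exact false_of_prime (r := 19) (hcard.trans h) hs (by norm_num) (by norm_num) (by norm_num)
      (by decide +kernel) (by decide +kernel) (hP ▸ facts_3420 h)
  · haveI : Fact (Nat.Prime 17) := ⟨by norm_num⟩
    exact false_of_prime (r := 17) (hcard.trans h) hs (by norm_num) (by norm_num) (by norm_num)
      (by decide +kernel) (by decide +kernel) (hP ▸ facts_4080 h)
  · obtain ⟨h3, h13⟩ := facts_5616 h
    rw [← hP] at h3 h13
    haveI : Fact (Nat.Prime 13) := ⟨by norm_num⟩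
    haveI := isSolvable_of_nonsimple hs (by omega) (by rw [hcard, h]; decide +kernel)
    exact false_of_solvable (r := 13) (q := 3) (b := 3) (hcard.trans h) Nat.prime_three
      (by norm_num) (by norm_num) (by norm_num) (by norm_num) (by norm_num) (by norm_num)
      (by decide +kernel) h13 h3

/-- Simple groups of the same order below 6000 are isomorphic. -/
theorem iso_of_card_lt {S : Type u} [Group S] [Finite S] [IsSimpleGroup S]
    (hS : ¬ IsMulCommutative S) (hlt : Nat.card S < 6000) {G : Type v} [Group G] [Finite G]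
    [IsSimpleGroup G] (hcard : Nat.card G = Nat.card S) : Nonempty (G ≃* S) := by
  have ho := card_mem_orders hS hlt
  simp only [orders, Finset.mem_insert, Finset.mem_singleton] at ho
  rcases ho with h | h | h | h | h | h | h | h | h | h | h
  · obtain ⟨a⟩ := Cfsg.Agent.S0494.result (hcard.trans h)
    obtain ⟨b⟩ := Cfsg.Agent.S0494.result h
    exact ⟨a.trans b.symm⟩
  · haveI : Fact (Nat.Prime 7) := ⟨by norm_num⟩
    obtain ⟨a⟩ := Cfsg.Agent.S0495.result (hcard.trans h) (ZMod.card 7)
    obtain ⟨b⟩ := Cfsg.Agent.S0495.result h (ZMod.card 7)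
    exact ⟨a.trans b.symm⟩
  · obtain ⟨a⟩ := Cfsg.Agent.S0497.result (hcard.trans h)
    obtain ⟨b⟩ := Cfsg.Agent.S0497.result h
    exact ⟨a.trans b.symm⟩
  · haveI : Fact (Nat.Prime 2) := ⟨Nat.prime_two⟩
    letI : Fintype (GaloisField 2 3) := Fintype.ofFinite _
    have hF : Fintype.card (GaloisField 2 3) = 8 := by
      rw [← Nat.card_eq_fintype_card, GaloisField.card 2 3 (by norm_num)]; rfl
    obtain ⟨a⟩ := Cfsg.Agent.S1011.result (hcard.trans h) hF
    obtain ⟨b⟩ := Cfsg.Agent.S1011.result h hF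
    exact ⟨a.trans b.symm⟩
  · haveI : Fact (Nat.Prime 11) := ⟨by norm_num⟩
    obtain ⟨a⟩ := Cfsg.Agent.S0498.result 11 (.inl rfl) (by rw [hcard, h]; norm_num) (ZMod.card 11)
      (G := G)
    obtain ⟨b⟩ := Cfsg.Agent.S0498.result 11 (.inl rfl) (by rw [h]; norm_num) (ZMod.card 11) (G := S)
    exact ⟨a.trans b.symm⟩
  · haveI : Fact (Nat.Prime 13) := ⟨by norm_num⟩
    obtain ⟨a⟩ := Cfsg.Agent.S0498.result 13 (.inr rfl) (by rw [hcard, h]; norm_num) (ZMod.card 13)
      (G := G)
    obtain ⟨b⟩ := Cfsg.Agent.S0498.result 13 (.inr rfl) (by rw [h]; norm_num) (ZMod.card 13) (G := S)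
    exact ⟨a.trans b.symm⟩
  · haveI : Fact (Nat.Prime 17) := ⟨by norm_num⟩
    obtain ⟨a⟩ := Cfsg.Agent.S1020.result (hcard.trans h) (ZMod.card 17)
    obtain ⟨b⟩ := Cfsg.Agent.S1020.result h (ZMod.card 17)
    exact ⟨a.trans b.symm⟩
  · obtain ⟨a⟩ := Cfsg.Agent.S0984.result (hcard.trans h)
    obtain ⟨b⟩ := Cfsg.Agent.S0984.result h
    exact ⟨a.trans b.symm⟩
  · haveI : Fact (Nat.Prime 19) := ⟨by norm_num⟩
    obtain ⟨a⟩ := Cfsg.Agent.S1021.result (hcard.trans h) (ZMod.card 19)
    obtain ⟨b⟩ := Cfsg.Agent.S1021.result h (ZMod.card 19)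
    exact ⟨a.trans b.symm⟩
  · haveI : Fact (Nat.Prime 2) := ⟨Nat.prime_two⟩
    letI : Fintype (GaloisField 2 4) := Fintype.ofFinite _
    have hF : Fintype.card (GaloisField 2 4) = 16 := by
      rw [← Nat.card_eq_fintype_card, GaloisField.card 2 4 (by norm_num)]; rfl
    obtain ⟨a⟩ := Cfsg.Agent.S0981.result (hcard.trans h) hF
    obtain ⟨b⟩ := Cfsg.Agent.S0981.result h hF
    exact ⟨a.trans b.symm⟩
  · exact Unique5616.iso_of_card (hcard.trans h) h

theorem iso_of_graph {S : Type u} [Group S] [Finite S] [IsSimpleGroup S]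
    (hS : ¬ IsMulCommutative S) (hlt : Nat.card S < 6000) {G : Type v} [Group G] [Finite G]
    (hcard : Nat.card G = Nat.card S) (hP : degreePrimes G = degreePrimes S)
    (hE : degreeGraph G = degreeGraph S) : Nonempty (G ≃* S) := by
  by_cases h60 : Nat.card S = 60
  · obtain ⟨b⟩ := Cfsg.Agent.S0494.result h60
    obtain ⟨a⟩ := Cfsg.Agent.S3669.result (hcard.trans h60)
      ⟨hP.trans (degreePrimes_congr b), hE.trans (degreeGraph_congr b)⟩
    exact ⟨a.trans b.symm⟩
  · haveI := isSimple_of_graph hS hlt h60 hcard hP hE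
    exact iso_of_card_lt hS hlt hcard

end H4.SmallOrder.Graph
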