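import Cfsg.Agent.H4.SmallOrder.Graph.Degrees
import Cfsg.Agent.H4.SmallOrder.Unique.Iso5616
import Cfsg.Agent.H37.SmallIso
import Cfsg.Agent.S0495
import Cfsg.Agent.S0497
import Cfsg.Agent.S0498
import Cfsg.Agent.S0981
import Cfsg.Agent.S0984
import Cfsg.Agent.S1011
import Cfsg.Agent.S1020
import Cfsg.Agent.S1021
import Cfsg.Agent.S4812

/-!
What is needed of the degree graphs of the simple groups of order below 6000.
-/

set_option autoImplicit false
set_option linter.style.haveILetI false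
set_option linter.unusedSectionVars false
set_option linter.style.show false

open Cfsg Subgroup

namespace H4.SmallOrder.Graph

universe u

theorem card_psl_two (F : Type) [Field F] [Fintype F] {q g n : ℕ} (hq : Fintype.card F = q)
    (hg : Nat.gcd 2 (q - 1) = g) (hn : q * (q ^ 2 - 1) = g * n) (hg0 : 0 < g) :
    Nat.card (Matrix.ProjectiveSpecialLinearGroup (Fin 2) F) = n := by
  have h := H37.card_PSL_two (F := F)
  rw [Nat.card_eq_fintype_card (α := F), hq, hg, hn] at h
  exact Nat.eq_of_mul_eq_mul_left hg0 h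

theorem psl_two_simple (F : Type) [Field F] [Fintype F] (h : 4 ≤ Fintype.card F) :
    IsSimpleGroup (Matrix.ProjectiveSpecialLinearGroup (Fin 2) F) :=
  Matrix.ProjectiveSpecialLinearGroup.rank_two_simple (by rw [Nat.card_eq_fintype_card]; omega)

variable {S : Type u} [Group S] [Finite S]

theorem mem_prime_psl {p : ℕ} [Fact p.Prime] (h5 : 5 < p)
    (e : S ≃* Matrix.ProjectiveSpecialLinearGroup (Fin 2) (ZMod p)) : p ∈ degreePrimes S := by
  rw [(H18.degreeGraph_psl2 p p (by omega) (ZMod.card p) h5 (.inl ⟨e⟩)).1]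
  exact ⟨Fact.out, dvd_mul_right _ _⟩

variable [IsSimpleGroup S]

theorem facts_168 (h : Nat.card S = 168) :
    2 ∈ degreePrimes S ∧ 7 ∈ degreePrimes S ∧ (degreeGraph S).Adj 2 3 := by
  haveI : Fact (Nat.Prime 7) := ⟨by norm_num⟩
  obtain ⟨e⟩ := Cfsg.Agent.S0495.result h (ZMod.card 7)
  obtain ⟨h1, h2⟩ := H18.degreeGraph_psl2 7 7 (by norm_num) (ZMod.card 7) (by norm_num) (S := S)
    (.inl ⟨e⟩)
  refine ⟨?_, mem_prime_psl (by norm_num) e, (h2 2 3).2 (by norm_num)⟩
  rw [h1]; exact ⟨Nat.prime_two, by norm_num⟩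

theorem facts_360 (h : Nat.card S = 360) :
    (degreeGraph S).Adj 2 5 ∧ ¬ (degreeGraph S).Adj 2 3 := by
  haveI : Fact (Nat.Prime 3) := ⟨Nat.prime_three⟩
  letI : Fintype (GaloisField 3 2) := Fintype.ofFinite _
  have hF : Fintype.card (GaloisField 3 2) = 9 := by
    rw [← Nat.card_eq_fintype_card, GaloisField.card 3 2 two_ne_zero]; rfl
  have hc := card_psl_two (GaloisField 3 2) hF (g := 2) (n := 360) (by decide) (by norm_num) two_pos
  haveI := psl_two_simple (GaloisField 3 2) (by omega)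
  obtain ⟨e⟩ := Cfsg.Agent.S0497.result h
  obtain ⟨e'⟩ := Cfsg.Agent.S0497.result hc
  obtain ⟨-, h2⟩ := H18.degreeGraph_psl2 3 9 (by norm_num) hF (by norm_num) (S := S)
    (.inl ⟨e.trans e'.symm⟩)
  exact ⟨(h2 2 5).2 (by norm_num), fun h => by have := (h2 2 3).1 h; norm_num at this⟩

theorem facts_504 (h : Nat.card S = 504) :
    2 ∈ degreePrimes S ∧ 7 ∈ degreePrimes S ∧ ¬ (degreeGraph S).Adj 2 3 := by
  haveI : Fact (Nat.Prime 2) := ⟨Nat.prime_two⟩
  letI : Fintype (GaloisField 2 3) := Fintype.ofFinite _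
  have hF : Fintype.card (GaloisField 2 3) = 8 := by
    rw [← Nat.card_eq_fintype_card, GaloisField.card 2 3 (by norm_num)]; rfl
  obtain ⟨e⟩ := Cfsg.Agent.S1011.result h hF
  obtain ⟨h1, h2⟩ := Cfsg.Agent.S4812.result (GaloisField 2 3) 8 hF (by norm_num) (S := S)
    (.inl ⟨e⟩)
  refine ⟨?_, ?_, fun h => by have := (h2 2 3).1 h; norm_num at this⟩
  · rw [h1]; exact ⟨Nat.prime_two, by norm_num⟩
  · rw [h1]; exact ⟨by norm_num, by norm_num⟩

theorem facts_660 (h : Nat.card S = 660) : 11 ∈ degreePrimes S := by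
  haveI : Fact (Nat.Prime 11) := ⟨by norm_num⟩
  obtain ⟨e⟩ := Cfsg.Agent.S0498.result 11 (.inl rfl) (by rw [h]; norm_num) (ZMod.card 11) (G := S)
  exact mem_prime_psl (by norm_num) e

theorem facts_1092 (h : Nat.card S = 1092) : 13 ∈ degreePrimes S := by
  haveI : Fact (Nat.Prime 13) := ⟨by norm_num⟩
  obtain ⟨e⟩ := Cfsg.Agent.S0498.result 13 (.inr rfl) (by rw [h]; norm_num) (ZMod.card 13) (G := S)
  exact mem_prime_psl (by norm_num) e

theorem facts_2448 (h : Nat.card S = 2448) : 17 ∈ degreePrimes S := by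
  haveI : Fact (Nat.Prime 17) := ⟨by norm_num⟩
  obtain ⟨e⟩ := Cfsg.Agent.S1020.result h (ZMod.card 17)
  exact mem_prime_psl (by norm_num) e

theorem facts_3420 (h : Nat.card S = 3420) : 19 ∈ degreePrimes S := by
  haveI : Fact (Nat.Prime 19) := ⟨by norm_num⟩
  obtain ⟨e⟩ := Cfsg.Agent.S1021.result h (ZMod.card 19)
  exact mem_prime_psl (by norm_num) e

theorem facts_4080 (h : Nat.card S = 4080) : 17 ∈ degreePrimes S := by
  haveI : Fact (Nat.Prime 2) := ⟨Nat.prime_two⟩
  letI : Fintype (GaloisField 2 4) := Fintype.ofFinite _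
  have hF : Fintype.card (GaloisField 2 4) = 16 := by
    rw [← Nat.card_eq_fintype_card, GaloisField.card 2 4 (by norm_num)]; rfl
  obtain ⟨e⟩ := Cfsg.Agent.S0981.result h hF
  obtain ⟨h1, -⟩ := Cfsg.Agent.S4812.result (GaloisField 2 4) 16 hF (by norm_num) (S := S)
    (.inl ⟨e⟩)
  rw [h1]; exact ⟨by norm_num, by norm_num⟩

theorem facts_5616 (h : Nat.card S = 5616) :
    3 ∈ degreePrimes S ∧ 13 ∈ degreePrimes S := by
  classical
  haveI := Fintype.ofFinite S
  haveI : Fact (Nat.Prime 13) := ⟨by norm_num⟩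
  obtain ⟨P, x, hx, hx1, ⟨D⟩⟩ := Unique5616.exists_x (G := S) h
  refine ⟨⟨Nat.prime_three, _, ⟨D.g, rfl⟩, ?_⟩, ?_⟩
  · show 3 ∣ H12.degree (D.g : S → ℂ)
    rw [D.deg_g]; norm_num
  by_contra h13
  obtain ⟨hP, -, -⟩ := Unique5616.local_thirteen h P
  haveI : Fintype (P : Subgroup S) := Fintype.ofFinite _
  have hall : ∀ ψ : IrrCharacter S,
      ψ ∈ insert (H12.oneIrr S) (insert D.f (insert D.g D.Y)) := by
    intro ψ
    by_contra hψ
    simp only [Finset.mem_insert, not_or] at hψ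
    refine h13 ⟨by norm_num, _, ⟨ψ, rfl⟩, ?_⟩
    obtain ⟨m, hm⟩ := H12.IsCharacter.classInner_nat
      (H12.IsCharacter.res (H12.isCharacter_irr ψ) (P : Subgroup S))
      (H12.isCharacter_monoidHom (1 : (P : Subgroup S) →* ℂˣ))
    rw [H12.classInner_def, ← Finset.add_sum_erase _ _ (Finset.mem_univ (1 : (P : Subgroup S))),
      Finset.sum_congr rfl (g := fun _ => (0 : ℂ)) (fun u hu => by
        have hu1 : (u : S) ≠ 1 := fun h1 => Finset.ne_of_mem_erase hu (Subtype.ext h1)
        have : (ψ : S → ℂ) u = 0 := D.val_other ψ hψ.1 hψ.2.1 hψ.2.2.1 hψ.2.2.2 u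
          (by rw [H20.PrimeSylow.zpowers_eq hP hx hx1]; exact u.2) hu1
        simp [this]), Finset.sum_const_zero, add_zero, hP] at hm
    simp only [OneMemClass.coe_one, MonoidHom.one_apply, Units.val_one, map_one, mul_one,
      H12.irr_apply_one, Nat.cast_one] at hm
    rw [inv_mul_eq_iff_eq_mul₀ (by norm_num)] at hm
    refine ⟨m, ?_⟩
    show H12.degree (ψ : S → ℂ) = 13 * m
    exact_mod_cast hm
  have hsum := H12.sum_degree_sq_nat (G := S)
  rw [← Finset.sum_subset (Finset.subset_univ (insert (H12.oneIrr S) (insert D.f (insert D.g D.Y))))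
      (fun ψ _ hψ => absurd (hall ψ) hψ),
    Finset.sum_insert (by simp [D.ne_f.symm, D.ne_g.symm, D.one_notMem]),
    Finset.sum_insert (by simp [D.ne_fg, D.f_notMem]), Finset.sum_insert D.g_notMem,
    Finset.sum_congr rfl (fun ψ hψ => by rw [D.deg_Y ψ hψ] :
      ∀ ψ ∈ D.Y, H12.degree (ψ : S → ℂ) ^ 2 = 16 ^ 2),
    Finset.sum_const, D.card_Y, D.deg_f, D.deg_g, H4.NoDiv.degree_one_irr, h] at hsum
  norm_num at hsum

/-! ### The alternating group of degree seven -/

open Equiv

/-- Eight elements of different cycle types. -/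
def sevenReps : Fin 8 → Perm (Fin 7) :=
  ![1, swap 0 1 * swap 2 3, c[0, 1, 2], c[0, 1, 2] * c[3, 4, 5], c[0, 1, 2, 3] * swap 4 5,
    c[0, 1, 2, 3, 4], c[0, 1, 2] * swap 3 4 * swap 5 6, c[0, 1, 2, 3, 4, 5, 6]]

/-- A conjugation invariant separating them. -/
def shape (σ : Perm (Fin 7)) : ℕ × ℕ × ℕ :=
  (σ.support.card, (σ ^ 2).support.card, (σ ^ 3).support.card)

theorem shape_eq {σ τ : Perm (Fin 7)} (h : IsConj σ τ) : shape σ = shape τ := by
  obtain ⟨c, rfl⟩ := isConj_iff.1 h
  simp only [shape, conj_pow, Perm.card_support_conj]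

theorem card_classes_seven : 8 ≤ Nat.card (ConjClasses (alternatingGroup (Fin 7))) := by
  have hmem : ∀ i, sevenReps i ∈ alternatingGroup (Fin 7) := fun i =>
    Equiv.Perm.mem_alternatingGroup.2
      ((by decide +kernel : ∀ i, Equiv.Perm.sign (sevenReps i) = 1) i)
  have hinj : Function.Injective (fun i => shape (sevenReps i)) := by decide +kernel
  have h := Nat.card_le_card_of_injective
    (fun i : Fin 8 => ConjClasses.mk (⟨sevenReps i, hmem i⟩ : alternatingGroup (Fin 7)))
    fun i j hij => hinj (shape_eq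
      ((alternatingGroup (Fin 7)).subtype.map_isConj (ConjClasses.mk_eq_mk_iff_isConj.1 hij)))
  simpa using h

theorem cycleType_of_orderOf {p : ℕ} (hp : p.Prime) (h : p = 5 ∨ p = 7) {σ : Perm (Fin 7)}
    (hσ : orderOf σ = p) : σ.cycleType = {p} := by
  haveI : Fact p.Prime := ⟨hp⟩
  obtain ⟨n, hn⟩ := Equiv.Perm.cycleType_prime_order (hσ.symm ▸ hp : (orderOf σ).Prime)
  rw [hσ] at hn
  have hle := σ.sum_cycleType.trans_le (Finset.card_le_univ _)
  rw [hn, Multiset.sum_replicate, Fintype.card_fin, smul_eq_mul] at hle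
  have : n = 0 := by rcases h with rfl | rfl <;> omega
  rw [hn, this]; rfl

theorem card_centralizer_seven {p : ℕ} [Fact p.Prime] (h : p = 5 ∨ p = 7)
    {u : alternatingGroup (Fin 7)} (hu : orderOf u = p) :
    Nat.card (centralizer ({u} : Set (alternatingGroup (Fin 7)))) = p := by
  have hu' : orderOf (u : Perm (Fin 7)) = p := by rw [Subgroup.orderOf_coe, hu]
  have hct := cycleType_of_orderOf Fact.out h hu'
  have hc : Nat.card (centralizer ({(u : Perm (Fin 7))} : Set (Perm (Fin 7)))) =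
      (7 - p).factorial * p := by
    rw [Equiv.Perm.nat_card_centralizer, hct, Fintype.card_fin]
    simp
  set C := (centralizer ({u} : Set (alternatingGroup (Fin 7)))).map (alternatingGroup (Fin 7)).subtype
  have hCc : Nat.card C = Nat.card (centralizer ({u} : Set (alternatingGroup (Fin 7)))) :=
    Subgroup.card_subtype _ _
  have hle : C ≤ centralizer ({(u : Perm (Fin 7))} : Set (Perm (Fin 7))) := by
    rintro _ ⟨x, hx, rfl⟩
    exact mem_centralizer_singleton_iff.2
      (congrArg Subtype.val (mem_centralizer_singleton_iff.1 hx))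
  have hpd : p ∣ Nat.card C := by
    rw [hCc, ← hu, ← Nat.card_zpowers]
    exact card_dvd_of_le (zpowers_le.2 (mem_centralizer_singleton_iff.2 rfl))
  rw [← hCc]
  have hdvd := card_dvd_of_le hle
  rw [hc] at hdvd
  rcases h with rfl | rfl
  · obtain ⟨k, hk⟩ := hpd
    rw [hk, show Nat.factorial (7 - 5) * 5 = 5 * 2 from rfl] at hdvd
    have hk2 := Nat.le_of_dvd two_pos (Nat.dvd_of_mul_dvd_mul_left (by norm_num) hdvd)
    have hk0 : 0 < k := Nat.pos_of_ne_zero fun h0 => by
      rw [h0, mul_zero] at hk; exact Nat.card_pos.ne' hk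
    interval_cases k
    · exact hk
    exfalso
    have hs : (u : Perm (Fin 7)).support.card = 5 := by
      rw [← Equiv.Perm.sum_cycleType, hct]; rfl
    have hcard : ((u : Perm (Fin 7)).supportᶜ).card = 2 := by
      rw [Finset.card_compl, hs, Fintype.card_fin]
    obtain ⟨a, b, hab, hset⟩ := Finset.card_eq_two.1 hcard
    have hdis : Equiv.Perm.Disjoint (swap a b) (u : Perm (Fin 7)) := by
      rw [Equiv.Perm.disjoint_iff_disjoint_support, Equiv.Perm.support_swap hab, ← hset]
      exact disjoint_compl_left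
    have hCeq : C = centralizer ({(u : Perm (Fin 7))} : Set (Perm (Fin 7))) :=
      eq_of_le_of_card_ge hle (by rw [hk, hc]; rfl)
    have hsw : swap a b ∈ C := hCeq ▸ mem_centralizer_singleton_iff.2 hdis.commute.eq
    obtain ⟨x, -, hx⟩ := hsw
    have h1 : Equiv.Perm.sign (x : Perm (Fin 7)) = 1 := Equiv.Perm.mem_alternatingGroup.1 x.2
    rw [Subgroup.coe_subtype] at hx
    rw [hx, Equiv.Perm.sign_swap hab] at h1
    exact absurd h1 (by decide)
  · exact Nat.dvd_antisymm (by simpa using hdvd) hpd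

theorem mem_seven {p : ℕ} [Fact p.Prime] (h : p = 5 ∨ p = 7) :
    p ∈ degreePrimes (alternatingGroup (Fin 7)) := by
  by_contra hnot
  have hd : p ∣ Nat.card (alternatingGroup (Fin 7)) := by
    have h2 := two_mul_nat_card_alternatingGroup (α := Fin 7)
    rw [Nat.card_perm, Nat.card_fin, show Nat.factorial 7 = 2 * 2520 from rfl] at h2
    rw [Nat.eq_of_mul_eq_mul_left two_pos h2]
    rcases h with rfl | rfl <;> norm_num
  obtain ⟨g, hg⟩ := exists_prime_orderOf_dvd_card' p hd
  have hz : Nat.card (zpowers g) = p := by rw [Nat.card_zpowers, hg]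
  have := card_classes_le Fact.out (zpowers g) hz (fun u hu hu1 => card_centralizer_seven h
    (((Nat.dvd_prime Fact.out).1 (hz ▸ Subgroup.orderOf_dvd_natCard _ hu)).resolve_left
      (fun h1 => hu1 (orderOf_eq_one_iff.1 h1)))) hnot
  have := card_classes_seven
  omega

theorem facts_2520 (h : Nat.card S = 2520) : 5 ∈ degreePrimes S ∧ 7 ∈ degreePrimes S := by
  obtain ⟨e⟩ := Cfsg.Agent.S0984.result h
  rw [degreePrimes_congr e]
  haveI : Fact (Nat.Prime 5) := ⟨by norm_num⟩
  haveI : Fact (Nat.Prime 7) := ⟨by norm_num⟩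
  exact ⟨mem_seven (.inl rfl), mem_seven (.inr rfl)⟩

end H4.SmallOrder.Graph
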