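import Cfsg.Agent.H4.SmallOrder.Range
import Cfsg.Agent.H4.ManyClasses.Parts
import Cfsg.Agent.H65.SimpleTools

/-!
A normal Sylow subgroup of prime order in groups of small order, from the prime power divisors.
-/

set_option autoImplicit false
set_option linter.style.haveILetI false
set_option linter.unusedSectionVars false

open Subgroup
open scoped Pointwise

namespace H4.SmallOrder.Graph

universe u

/-- No prime power divisor of `n` other than one is congruent to one modulo `r`. -/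
def NoOne (r n : ℕ) : Prop := ∀ l i : ℕ, l.Prime → 0 < i → l ^ i ∣ n → l ^ i % r ≠ 1

theorem NoOne.of_dvd {r m n : ℕ} (h : NoOne r n) (hm : m ∣ n) : NoOne r m :=
  fun l i hl hi hd => h l i hl hi (hd.trans hm)

theorem noOne_of_divisors {r n : ℕ} (hn : n ≠ 0)
    (h : ∀ d ∈ n.divisors, d % r = 1 → d ≠ 1 → ¬ IsPrimePow d) : NoOne r n :=
  fun l i hl hi hd h1 => h _ (Nat.mem_divisors.2 ⟨hd, hn⟩) h1
    (Nat.one_lt_pow hi.ne' hl.one_lt).ne'
    ((isPrimePow_nat_iff _).2 ⟨l, i, hl, hi, rfl⟩)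

variable {X : Type u} [Group X] [Finite X] {r : ℕ} [hr : Fact r.Prime]

/-- An operator group of prime order normalises a Sylow subgroup of a group of prime-to-`r` order. -/
theorem exists_invariant_sylow (P N : Subgroup X) (hP : Nat.card P = r)
    (hn : P ≤ normalizer (N : Set X)) (hN : ¬ r ∣ Nat.card N) (l : ℕ) [Fact l.Prime] :
    ∃ Q : Sylow l N, P ≤ normalizer ((Q : Subgroup N).map N.subtype : Set X) := by
  let φ : P →* MulAut N := N.normalizerMonoidHom.comp (Subgroup.inclusion hn)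
  letI : MulAction P (Sylow l N) := MulAction.compHom _ φ
  haveI : Finite (Sylow l N) := inferInstance
  obtain ⟨Q₀⟩ := (inferInstance : Nonempty (Sylow l N))
  have hmod := (IsPGroup.of_card (n := 1) (show Nat.card P = r ^ 1 by rw [pow_one, hP])
    ).card_modEq_card_fixedPoints (Sylow l N)
  have hndvd : ¬ r ∣ Nat.card (Sylow l N) := fun h =>
    hN (h.trans ((Sylow.card_dvd_index Q₀).trans (Subgroup.index_dvd_card _)))
  obtain ⟨⟨Q, hQ⟩⟩ : Nonempty (MulAction.fixedPoints P (Sylow l N)) := by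
    by_contra hne
    rw [not_nonempty_iff] at hne
    rw [Nat.card_of_isEmpty (α := MulAction.fixedPoints P (Sylow l N))] at hmod
    exact hndvd (Nat.modEq_zero_iff_dvd.1 hmod)
  have hmem : ∀ g : P, ∀ x ∈ (Q : Subgroup N), φ g x ∈ (Q : Subgroup N) := fun g x hx => by
    have h1 : (φ g • Q : Sylow l N) = Q := hQ g
    have h2 : φ g • x ∈ φ g • (Q : Subgroup N) := Subgroup.smul_mem_pointwise_smul x (φ g) _ hx
    have h3 : φ g • (Q : Subgroup N) = (Q : Subgroup N) := congrArg Sylow.toSubgroup h1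
    rwa [h3] at h2
  refine ⟨Q, fun g hg => Subgroup.mem_normalizer_iff.2 fun x => ⟨?_, fun hx => ?_⟩⟩
  · rintro ⟨y, hy, rfl⟩
    exact ⟨_, hmem ⟨g, hg⟩ y hy, rfl⟩
  · obtain ⟨y, hy, hyx⟩ := hx
    refine ⟨_, hmem ⟨g⁻¹, P.inv_mem hg⟩ y hy, ?_⟩
    show g⁻¹ * (y : X) * g⁻¹⁻¹ = x
    rw [Subgroup.coe_subtype] at hyx
    rw [hyx]; group

/-- A group of prime order normalising a group of prime-power order centralises it. -/
theorem centralize_of_pgroup (P Q : Subgroup X) (hP : Nat.card P = r)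
    (hn : P ≤ normalizer (Q : Set X)) (hr' : ¬ r ∣ Nat.card Q) (h1 : NoOne r (Nat.card Q))
    {l : ℕ} [Fact l.Prime] (hQ : IsPGroup l Q) : P ≤ centralizer (Q : Set X) := by
  have hcop : (Nat.card Q).Coprime (Nat.card P) := by
    rw [hP]; exact ((hr.out.coprime_iff_not_dvd).2 hr').symm
  have hY : Nat.card ↥(Q ⊔ P) = Nat.card Q * r := by
    rw [H4.ManyClasses.card_sup_of_normalize hn hcop, hP]
  set Y := Q ⊔ P
  have hPc : Nat.card (P.subgroupOf Y) = r := by
    rw [Nat.card_congr (Subgroup.subgroupOfEquivOfLe le_sup_right).toEquiv, hP]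
  have hidx : (P.subgroupOf Y).index = Nat.card Q := by
    have h := Subgroup.card_mul_index (P.subgroupOf Y)
    rw [hPc, hY, mul_comm (Nat.card Q)] at h
    exact Nat.eq_of_mul_eq_mul_left hr.out.pos h
  let S : Sylow r Y := (IsPGroup.of_card (n := 1) (by rw [pow_one, hPc])).toSylow (by rwa [hidx])
  have hd : Nat.card (Sylow r Y) ∣ Nat.card Q := hidx ▸ Sylow.card_dvd_index S
  obtain ⟨k, hk⟩ := IsPGroup.iff_card.1 hQ
  obtain ⟨j, -, hj⟩ := (Nat.dvd_prime_pow (Fact.out : l.Prime)).1 (hk ▸ hd)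
  have hone : Nat.card (Sylow r Y) = 1 := by
    rcases Nat.eq_zero_or_pos j with h0 | h0
    · rw [hj, h0, pow_zero]
    · refine absurd ?_ (h1 l j Fact.out h0 (hj ▸ hd))
      have h := card_sylow_modEq_one r Y
      rw [hj, Nat.ModEq, Nat.mod_eq_of_lt hr.out.one_lt] at h
      exact h
  haveI : Subsingleton (Sylow r Y) := (Nat.card_eq_one_iff_unique.1 hone).1
  have hnorm : (P.subgroupOf Y).Normal := (inferInstance : ((S : Subgroup Y)).Normal)
  have hdis := Subgroup.disjoint_of_coprime_natCard hcop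
  refine fun p hp => Subgroup.mem_centralizer_iff.2 fun q hq => ?_
  have hqY : q ∈ Y := le_sup_left (b := P) hq
  have h2 : q * p * q⁻¹ ∈ P :=
    hnorm.conj_mem ⟨p, le_sup_right (a := Q) hp⟩ hp ⟨q, hqY⟩
  have h3 : p * q⁻¹ * p⁻¹ ∈ Q := (Subgroup.mem_normalizer_iff.1 (hn hp) _).1 (Q.inv_mem hq)
  have h4 : q * p * q⁻¹ * p⁻¹ = 1 := Subgroup.disjoint_def.mp hdis
    (by rw [mul_assoc q p, mul_assoc q]; exact Q.mul_mem hq h3) (P.mul_mem h2 (P.inv_mem hp))
  exact commutatorElement_eq_one_iff_mul_comm.1 h4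

/-- A group of prime order normalising `N` centralises it if no prime power divisor of the order
of `N` is one modulo `r`. -/
theorem le_centralizer (P N : Subgroup X) (hP : Nat.card P = r)
    (hn : P ≤ normalizer (N : Set X)) (hN : ¬ r ∣ Nat.card N) (h1 : NoOne r (Nat.card N)) :
    P ≤ centralizer (N : Set X) := by
  suffices N ≤ centralizer (P : Set X) from Subgroup.le_centralizer_iff.1 this
  rw [← Subgroup.subgroupOf_eq_top, ← Subgroup.index_eq_one, Nat.eq_one_iff_not_exists_prime_dvd]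
  intro l hl hd
  haveI : Fact l.Prime := ⟨hl⟩
  obtain ⟨Q, hQ⟩ := exists_invariant_sylow P N hP hn hN l
  refine Q.not_dvd_index (hd.trans (Subgroup.index_dvd_of_le fun x hx => ?_))
  have hQc : Nat.card ((Q : Subgroup N).map N.subtype) = Nat.card (Q : Subgroup N) :=
    Subgroup.card_subtype _ _
  have hle : ((Q : Subgroup N).map N.subtype) ≤ centralizer (P : Set X) :=
    Subgroup.le_centralizer_iff.1 (centralize_of_pgroup P _ hP hQ
      (hQc ▸ fun h => hN (h.trans (Subgroup.card_subgroup_dvd_card _)))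
      (hQc ▸ h1.of_dvd (Subgroup.card_subgroup_dvd_card _)) (l := l) (Q.2.map _))
  exact hle ⟨x, hx, rfl⟩

/-- In a group with normal `P` of order `r`, `r²` not dividing the order, all elements killed by
`r` lie in `P`. -/
theorem mem_of_pow (P : Subgroup X) [P.Normal] (hP : Nat.card P = r) (h2 : ¬ r ^ 2 ∣ Nat.card X)
    {x : X} (hx : x ^ r = 1) : x ∈ P := by
  refine H4.ManyClasses.mem_of_coprime_index P ?_
  refine Nat.Coprime.coprime_dvd_left (orderOf_dvd_of_pow_eq_one hx)
    ((hr.out.coprime_iff_not_dvd).2 fun h => h2 ?_)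
  rw [← P.card_mul_index, hP, sq]
  exact mul_dvd_mul_left r h

/-- A normal subgroup of order `r` of a normal subgroup is normal. -/
theorem normal_of_normal_sub (N : Subgroup X) [N.Normal] (h2 : ¬ r ^ 2 ∣ Nat.card X)
    (h : ∃ P : Subgroup N, P.Normal ∧ Nat.card P = r) :
    ∃ P : Subgroup X, P.Normal ∧ Nat.card P = r := by
  obtain ⟨P, hPn, hP⟩ := h
  refine ⟨P.map N.subtype, ⟨fun x hx g => ?_⟩, by rw [Subgroup.card_subtype, hP]⟩
  obtain ⟨y, hy, rfl⟩ := hx
  refine ⟨⟨g * y * g⁻¹, (inferInstance : N.Normal).conj_mem _ y.2 g⟩, ?_, rfl⟩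
  refine mem_of_pow P hP (fun h => h2 (h.trans (Subgroup.card_subgroup_dvd_card N))) (Subtype.ext ?_)
  have hy' : y ^ r = 1 := by
    have : (⟨y, hy⟩ : P) ^ r = 1 := by rw [← hP]; exact pow_card_eq_one'
    exact congrArg Subtype.val this
  rw [SubgroupClass.coe_pow, OneMemClass.coe_one, conj_pow, ← SubgroupClass.coe_pow, hy']
  simp

/-- Lifting from a quotient by a centralised subgroup. -/
theorem lift_normal' (K : Subgroup X) [K.Normal] (hK : ¬ r ∣ Nat.card K)
    (hc : ∀ P : Subgroup X, Nat.card P = r → P ≤ centralizer (K : Set X))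
    (hq : ∃ P : Subgroup (X ⧸ K), P.Normal ∧ Nat.card P = r) :
    ∃ P : Subgroup X, P.Normal ∧ Nat.card P = r := by
  obtain ⟨Pb, hPbn, hPb⟩ := hq
  set L := Pb.comap (QuotientGroup.mk' K)
  have hLc : Nat.card L = r * Nat.card K := by
    have h1 := L.card_mul_index
    rw [Subgroup.index_comap_of_surjective _ (QuotientGroup.mk'_surjective K),
      ← K.card_mul_index, Subgroup.index_eq_card K, ← Pb.card_mul_index, hPb] at h1
    exact Nat.eq_of_mul_eq_mul_right (Nat.pos_of_ne_zero Subgroup.index_ne_zero_of_finite)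
      (h1.trans (by ring))
  obtain ⟨g, hg⟩ := exists_prime_orderOf_dvd_card' (G := L) r (hLc ▸ dvd_mul_right _ _)
  have hgX : orderOf (g : X) = r := by rw [Subgroup.orderOf_coe, hg]
  set P := zpowers (g : X)
  have hP : Nat.card P = r := by rw [Nat.card_zpowers, hgX]
  have hcK := hc P hP
  have hcop : (Nat.card K).Coprime (Nat.card P) := by
    rw [hP]; exact ((hr.out.coprime_iff_not_dvd).2 hK).symm
  have hn : P ≤ normalizer (K : Set X) := by rw [Subgroup.normalizer_eq_top]; exact le_top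
  have hKL : K ⊔ P = L := by
    refine Subgroup.eq_of_le_of_card_ge (sup_le ?_ (zpowers_le.2 g.2)) ?_
    · intro k hk
      show (QuotientGroup.mk' K) k ∈ Pb
      rw [QuotientGroup.mk'_apply, (QuotientGroup.eq_one_iff k).2 hk]
      exact Pb.one_mem
    · rw [H4.ManyClasses.card_sup_of_normalize hn hcop, hP, hLc, mul_comm]
  refine ⟨P, ⟨fun x hx c => ?_⟩, hP⟩
  have hxr : x ^ r = 1 := by
    have : (⟨x, hx⟩ : P) ^ r = 1 := by rw [← hP]; exact pow_card_eq_one'
    exact congrArg Subtype.val this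
  have hmem : c * x * c⁻¹ ∈ ((K ⊔ P : Subgroup X) : Set X) := by
    rw [SetLike.mem_coe, hKL]
    exact (hPbn.comap (QuotientGroup.mk' K)).conj_mem x (zpowers_le.2 g.2 hx) c
  rw [Subgroup.coe_mul_of_right_le_normalizer_left _ _ hn] at hmem
  obtain ⟨k, hk, p, hp, hkp⟩ := hmem
  have hpr : p ^ r = 1 := by
    have : (⟨p, hp⟩ : P) ^ r = 1 := by rw [← hP]; exact pow_card_eq_one'
    exact congrArg Subtype.val this
  have hkr : k ^ r = 1 := by
    have h := congrArg (· ^ r) hkp
    simp only [conj_pow, hxr, mul_one, mul_inv_cancel] at h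
    rwa [Commute.mul_pow (show Commute k p from Subgroup.mem_centralizer_iff.1 (hcK hp) k hk),
      hpr, mul_one] at h
  have hk1 : k = 1 := by
    rw [← orderOf_eq_one_iff]
    exact Nat.eq_one_of_dvd_coprimes ((hr.out.coprime_iff_not_dvd).2 hK)
      (orderOf_dvd_of_pow_eq_one hkr) (Subgroup.orderOf_dvd_natCard K hk)
  simp only at hkp
  rw [← hkp, hk1, one_mul]
  exact hp

/-- Lifting from a quotient. -/
theorem lift_normal (K : Subgroup X) [K.Normal] (hK : ¬ r ∣ Nat.card K)
    (h1 : NoOne r (Nat.card K)) (hq : ∃ P : Subgroup (X ⧸ K), P.Normal ∧ Nat.card P = r) :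
    ∃ P : Subgroup X, P.Normal ∧ Nat.card P = r :=
  lift_normal' K hK (fun P hP => le_centralizer P K hP
    (by rw [Subgroup.normalizer_eq_top]; exact le_top) hK h1) hq

omit hr in
theorem exists_normal_proper [Nontrivial X] (h : ¬ IsSimpleGroup X) :
    ∃ N : Subgroup X, N.Normal ∧ N ≠ ⊥ ∧ N ≠ ⊤ := by
  by_contra hcon
  push Not at hcon
  exact h ⟨fun N hN => or_iff_not_imp_left.mpr fun hb => hcon N hN hb⟩

omit hr in
theorem card_lt_of_ne_top {N : Subgroup X} (hN : N ≠ ⊤) : Nat.card N < Nat.card X :=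
  lt_of_le_of_ne (Subgroup.card_le_card_group N) fun e => hN (Subgroup.eq_top_of_card_eq N e)

omit hr in
theorem card_quot_lt {N : Subgroup X} [N.Normal] (hN : N ≠ ⊥) : Nat.card (X ⧸ N) < Nat.card X := by
  rw [← Subgroup.index_eq_card, ← Subgroup.index_mul_card N]
  exact lt_mul_of_one_lt_right (Nat.pos_of_ne_zero Subgroup.index_ne_zero_of_finite)
    ((Subgroup.one_lt_card_iff_ne_bot N).mpr hN)

omit hr in
theorem card_quot_dvd (N : Subgroup X) [N.Normal] : Nat.card (X ⧸ N) ∣ Nat.card X :=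
  Subgroup.card_quotient_dvd_card N

/-- Solvable, or free of simple sections of order divisible by `r`. -/
def Ok (r : ℕ) (X : Type u) [Group X] : Prop :=
  Group.IsSolvable X ∨ (Nat.card X < 6000 ∧ ∀ d ∈ orders, d ∣ Nat.card X → ¬ r ∣ d)

omit hr in
theorem Ok.sub (h : Ok r X) (N : Subgroup X) : Ok r N :=
  h.imp (fun h => by haveI := h; infer_instance) fun h =>
    ⟨lt_of_le_of_lt (Subgroup.card_le_card_group N) h.1,
      fun d hd hdn => h.2 d hd (hdn.trans (Subgroup.card_subgroup_dvd_card N))⟩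

omit hr in
theorem Ok.quot (h : Ok r X) (N : Subgroup X) [N.Normal] : Ok r (X ⧸ N) :=
  h.imp (fun h => by haveI := h; infer_instance) fun h =>
    ⟨lt_of_le_of_lt (Nat.le_of_dvd Nat.card_pos (card_quot_dvd N)) h.1,
      fun d hd hdn => h.2 d hd (hdn.trans (card_quot_dvd N))⟩

omit hr in
theorem not_dvd_card_quot {N : Subgroup X} [N.Normal]
    (h : r ∣ Nat.card X) (hN : r.Prime) (hdvd : ¬ r ∣ Nat.card N) : r ∣ Nat.card (X ⧸ N) := by
  rw [← Subgroup.card_mul_index N, Subgroup.index_eq_card] at h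
  exact (hN.dvd_mul.1 h).resolve_left hdvd

theorem sylow_normal (hd : r ∣ Nat.card X) (h2 : ¬ r ^ 2 ∣ Nat.card X)
    (h1 : NoOne r (Nat.card X)) (hok : Ok r X) :
    ∃ P : Subgroup X, P.Normal ∧ Nat.card P = r := by
  suffices ∀ (n : ℕ) (Y : Type u) [Group Y] [Finite Y], Nat.card Y = n → r ∣ n → ¬ r ^ 2 ∣ n →
      NoOne r n → Ok r Y → ∃ P : Subgroup Y, P.Normal ∧ Nat.card P = r from
    this _ X rfl hd h2 h1 hok
  intro n
  induction n using Nat.strong_induction_on with
  | _ n ih =>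
  intro Y _ _ hn hd h2 h1 hok
  haveI : Nontrivial Y := Finite.one_lt_card_iff_nontrivial.1
    (hn ▸ lt_of_lt_of_le hr.out.one_lt (Nat.le_of_dvd (hn ▸ Nat.card_pos) hd))
  by_cases hs : IsSimpleGroup Y
  · have hp : (Nat.card Y).Prime := by
      by_contra hp
      have hna : ¬ IsMulCommutative Y := H62.not_comm_of_not_prime hp
      rcases hok with h | ⟨h, hh⟩
      · exact hna ⟨⟨IsSimpleGroup.comm_iff_isSolvable.2 h⟩⟩
      · exact hh _ (card_mem_orders hna h) dvd_rfl (hn ▸ hd)
    refine ⟨⊤, inferInstance, ?_⟩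
    rw [Subgroup.card_top]
    exact ((Nat.prime_dvd_prime_iff_eq hr.out hp).1 (hn ▸ hd)).symm
  obtain ⟨N, hNn, hN1, hN2⟩ := exists_normal_proper hs
  subst hn
  by_cases hrN : r ∣ Nat.card N
  · exact normal_of_normal_sub N h2 (ih _ (card_lt_of_ne_top hN2) N rfl hrN
      (fun h => h2 (h.trans (Subgroup.card_subgroup_dvd_card N)))
      (h1.of_dvd (Subgroup.card_subgroup_dvd_card N)) (hok.sub N))
  · exact lift_normal N hrN (h1.of_dvd (Subgroup.card_subgroup_dvd_card N))
      (ih _ (card_quot_lt hN1) (Y ⧸ N) rfl (not_dvd_card_quot hd hr.out hrN)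
        (fun h => h2 (h.trans (card_quot_dvd N))) (h1.of_dvd (card_quot_dvd N)) (hok.quot N))

/-- A nontrivial finite solvable group has a nontrivial normal abelian subgroup of prime-power
order. -/
theorem exists_abelian_normal {Y : Type u} [Group Y] [Finite Y] [Nontrivial Y]
    [Group.IsSolvable Y] : ∃ (A : Subgroup Y) (l : ℕ), A.Normal ∧ A ≠ ⊥ ∧ l.Prime ∧
      IsPGroup l A ∧ ∀ a ∈ A, ∀ b ∈ A, a * b = b * a := by
  classical
  obtain ⟨n, hn⟩ := (isSolvable_def Y).1 inferInstance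
  have hex : ∃ n, derivedSeries Y n = ⊥ := ⟨n, hn⟩
  obtain ⟨m, hm⟩ : ∃ m, Nat.find hex = m + 1 := by
    refine Nat.exists_eq_succ_of_ne_zero fun h0 => ?_
    have := Nat.find_spec hex
    rw [h0, derivedSeries_zero] at this
    exact bot_ne_top this.symm
  set B := derivedSeries Y m
  haveI hBn : B.Normal := derivedSeries_normal Y m
  have hB : B ≠ ⊥ := Nat.find_min hex (by omega)
  have hBB : ⁅B, B⁆ = ⊥ := by
    rw [← derivedSeries_succ, ← hm]; exact Nat.find_spec hex
  have hcomm : ∀ a ∈ B, ∀ b ∈ B, a * b = b * a := fun a ha b hb => by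
    have := Subgroup.commutator_mem_commutator ha hb
    rw [hBB, Subgroup.mem_bot] at this
    exact commutatorElement_eq_one_iff_mul_comm.1 this
  obtain ⟨l, hl, hld⟩ := Nat.exists_prime_and_dvd
    ((Subgroup.one_lt_card_iff_ne_bot B).2 hB).ne'
  haveI : Fact l.Prime := ⟨hl⟩
  obtain ⟨Q⟩ := (inferInstance : Nonempty (Sylow l B))
  haveI hQn : (Q : Subgroup B).Normal := ⟨fun x hx g => by
    rwa [show g * x * g⁻¹ = x from Subtype.ext (by
      simp only [Subgroup.coe_mul, InvMemClass.coe_inv]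
      rw [hcomm _ g.2 _ x.2, mul_inv_cancel_right])]⟩
  haveI : (Q : Subgroup B).Characteristic := Sylow.characteristic_of_normal Q hQn
  refine ⟨(Q : Subgroup B).map B.subtype, l, inferInstance, fun h => ?_, hl, Q.2.map _, ?_⟩
  · rw [Subgroup.map_eq_bot_iff_of_injective _ B.subtype_injective] at h
    exact Sylow.ne_bot_of_dvd_card Q hld h
  · rintro _ ⟨a, -, rfl⟩ _ ⟨b, -, rfl⟩
    exact hcomm _ a.2 _ b.2

/-- Only the full `q`-part of the order is one modulo `r`. -/
def OnlyOne (r q b n : ℕ) : Prop :=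
  ∀ l i : ℕ, l.Prime → 0 < i → l ^ i ∣ n → l ^ i % r = 1 → l = q ∧ i = b

omit hr in
theorem OnlyOne.noOne {q b m n : ℕ} (h : OnlyOne r q b n) (hm : m ∣ n) (hq : ¬ q ^ b ∣ m) :
    NoOne r m := fun l i hl hi hd h1 => by
  obtain ⟨rfl, rfl⟩ := h l i hl hi (hd.trans hm) h1
  exact hq hd

omit hr in
theorem onlyOne_of_divisors {q b n : ℕ} (hn : n ≠ 0) (hq : q.Prime)
    (h : ∀ d ∈ n.divisors, d % r = 1 → d ≠ 1 → d = q ^ b ∨ ¬ IsPrimePow d) :
    OnlyOne r q b n := fun l i hl hi hd h1 => by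
  rcases h _ (Nat.mem_divisors.2 ⟨hd, hn⟩) h1 (Nat.one_lt_pow hi.ne' hl.one_lt).ne' with h | h
  · have hlq : l = q := (Nat.prime_dvd_prime_iff_eq hl hq).1
      (hl.dvd_of_dvd_pow (h ▸ dvd_pow_self l hi.ne'))
    subst hlq
    exact ⟨rfl, Nat.pow_right_injective hl.two_le h⟩
  · exact absurd ((isPrimePow_nat_iff _).2 ⟨l, i, hl, hi, rfl⟩) h

/-- The exceptional case: only the full `q`-part is one modulo `r`. -/
theorem normal_or_abelian [Group.IsSolvable X] {q b : ℕ} (hq : q.Prime) (hrq : r ≠ q) (hb : 0 < b)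
    (hd : r ∣ Nat.card X) (h2 : ¬ r ^ 2 ∣ Nat.card X) (hqb : q ^ b ∣ Nat.card X)
    (hqb' : ¬ q ^ (b + 1) ∣ Nat.card X) (h1 : OnlyOne r q b (Nat.card X)) :
    (∃ P : Subgroup X, P.Normal ∧ Nat.card P = r) ∨
      ∃ K : Subgroup X, K.Normal ∧ Nat.card K = q ^ b ∧ ∀ a ∈ K, ∀ c ∈ K, a * c = c * a := by
  suffices ∀ (n : ℕ) (Y : Type u) [Group Y] [Finite Y], Group.IsSolvable Y → Nat.card Y = n →
      r ∣ n → ¬ r ^ 2 ∣ n → q ^ b ∣ n → ¬ q ^ (b + 1) ∣ n → OnlyOne r q b n →
      (∃ P : Subgroup Y, P.Normal ∧ Nat.card P = r) ∨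
      ∃ K : Subgroup Y, K.Normal ∧ Nat.card K = q ^ b ∧ ∀ a ∈ K, ∀ c ∈ K, a * c = c * a from
    this _ X inferInstance rfl hd h2 hqb hqb' h1
  intro n
  induction n using Nat.strong_induction_on with
  | _ n ih =>
  intro Y _ _ hsol hn hd h2 hqb hqb' h1
  haveI := hsol
  haveI : Fact q.Prime := ⟨hq⟩
  subst hn
  haveI : Nontrivial Y := Finite.one_lt_card_iff_nontrivial.1
    (lt_of_lt_of_le hr.out.one_lt (Nat.le_of_dvd Nat.card_pos hd))
  obtain ⟨A, l, hAn, hA1, hl, hAl, hAc⟩ := exists_abelian_normal (Y := Y)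
  haveI : Fact l.Prime := ⟨hl⟩
  obtain ⟨a, ha⟩ := IsPGroup.iff_card.1 hAl
  have hadvd : l ^ a ∣ Nat.card Y := ha ▸ Subgroup.card_subgroup_dvd_card A
  have ha0 : a ≠ 0 := fun h => hA1 (Subgroup.card_eq_one.1 (by rw [ha, h, pow_zero]))
  by_cases hlr : l = r
  · subst hlr
    left
    refine ⟨A, hAn, ?_⟩
    have : a < 2 := by
      by_contra hlt
      exact h2 ((pow_dvd_pow l (not_lt.1 hlt)).trans hadvd)
    rw [ha, show a = 1 by omega, pow_one]
  have hrA : ¬ r ∣ Nat.card A := fun h =>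
    hlr ((Nat.prime_dvd_prime_iff_eq hr.out hl).1 (hr.out.dvd_of_dvd_pow (ha ▸ h))).symm
  have hcardA : Nat.card A * Nat.card (Y ⧸ A) = Nat.card Y := by
    rw [← Subgroup.index_eq_card, Subgroup.card_mul_index]
  have hdq := not_dvd_card_quot hd hr.out hrA
  by_cases hlq : l = q
  · subst hlq
    have hab : a ≤ b := by
      by_contra hlt
      exact hqb' ((pow_dvd_pow l (not_le.1 hlt)).trans hadvd)
    rcases hab.eq_or_lt with rfl | hab
    · exact .inr ⟨A, hAn, ha, hAc⟩
    left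
    refine lift_normal A hrA (h1.noOne (Subgroup.card_subgroup_dvd_card A) fun h => ?_) ?_
    · rw [ha] at h
      exact absurd ((Nat.pow_dvd_pow_iff_le_right hl.one_lt).1 h) (by omega)
    · refine sylow_normal hdq (fun h => h2 (h.trans (card_quot_dvd A)))
        (h1.noOne (card_quot_dvd A) fun h => hqb' ?_) (.inl inferInstance)
      rw [← hcardA, ha, add_comm b 1, pow_add, pow_one]
      exact mul_dvd_mul (dvd_pow_self l ha0) h
  have hqA : ¬ q ∣ Nat.card A := fun h =>
    hlq ((Nat.prime_dvd_prime_iff_eq hq hl).1 (hq.dvd_of_dvd_pow (ha ▸ h))).symm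
  have hA1' : NoOne r (Nat.card A) := h1.noOne (Subgroup.card_subgroup_dvd_card A)
    fun h => hqA ((dvd_pow_self q hb.ne').trans h)
  have hcopA : (q ^ b).Coprime (Nat.card A) := ((hq.coprime_iff_not_dvd).2 hqA).pow_left b
  have hqbA : q ^ b ∣ Nat.card (Y ⧸ A) := hcopA.dvd_of_dvd_mul_left (hcardA ▸ hqb)
  rcases ih _ (card_quot_lt hA1) (Y ⧸ A) inferInstance rfl hdq
      (fun h => h2 (h.trans (card_quot_dvd A))) hqbA (fun h => hqb' (h.trans (card_quot_dvd A)))
      (fun l i hl hi hd => h1 l i hl hi (hd.trans (card_quot_dvd A))) with h | ⟨Kb, hKn, hKc, hKcomm⟩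
  · exact .inl (lift_normal A hrA hA1' h)
  by_contra hcon
  rw [not_or] at hcon
  obtain ⟨hleft, hright⟩ := hcon
  set K := Kb.comap (QuotientGroup.mk' A)
  haveI : K.Normal := hKn.comap _
  have hKcard : Nat.card K = q ^ b * Nat.card A := by
    have h1 := K.card_mul_index
    rw [Subgroup.index_comap_of_surjective _ (QuotientGroup.mk'_surjective A),
      ← hcardA, ← Kb.card_mul_index, hKc] at h1
    exact Nat.eq_of_mul_eq_mul_right (Nat.pos_of_ne_zero Subgroup.index_ne_zero_of_finite)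
      (h1.trans (by ring))
  have hAK : A ≤ K := fun x hx => by
    show (QuotientGroup.mk' A) x ∈ Kb
    rw [QuotientGroup.mk'_apply, (QuotientGroup.eq_one_iff x).2 hx]
    exact Kb.one_mem
  have hrK : ¬ r ∣ Nat.card K := fun h => by
    rw [hKcard] at h
    rcases hr.out.dvd_mul.1 h with h | h
    · exact hrq ((Nat.prime_dvd_prime_iff_eq hr.out hq).1 (hr.out.dvd_of_dvd_pow h))
    · exact hrA h
  have htop : ∀ (N : Subgroup Y) [N.Normal], ∀ P : Subgroup Y, P ≤ normalizer (N : Set Y) :=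
    fun N _ P => by rw [Subgroup.normalizer_eq_top]; exact le_top
  have hcK : ∀ P : Subgroup Y, Nat.card P = r → P ≤ centralizer (K : Set Y) := by
    intro P hP
    have hPA : P ≤ centralizer (A : Set Y) := le_centralizer P A hP (htop A P) hrA hA1'
    obtain ⟨Q₀, hQn⟩ := exists_invariant_sylow P K hP (htop K P) hrK q
    set Q := (Q₀ : Subgroup K).map K.subtype with hQ
    have hQK : Q ≤ K := Subgroup.map_subtype_le _
    have hQc : Nat.card Q = q ^ b := by
      rw [hQ, Subgroup.card_subtype, Q₀.card_eq_multiplicity, hKcard,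
        Nat.factorization_mul (pow_ne_zero _ hq.ne_zero) Nat.card_pos.ne', Finsupp.add_apply,
        hq.factorization_pow, Finsupp.single_eq_same, Nat.factorization_eq_zero_of_not_dvd hqA,
        add_zero]
    have hdis : Disjoint A Q := Subgroup.disjoint_of_coprime_natCard (hQc ▸ hcopA.symm)
    have hQcomm : ∀ x ∈ Q, ∀ y ∈ Q, x * y = y * x := fun x hx y hy => by
      apply commutatorElement_eq_one_iff_mul_comm.1
      refine Subgroup.disjoint_def.mp hdis ?_
        (Q.mul_mem (Q.mul_mem (Q.mul_mem hx hy) (Q.inv_mem hx)) (Q.inv_mem hy))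
      rw [← QuotientGroup.eq_one_iff, commutatorElement_def]
      simp only [QuotientGroup.mk_mul, QuotientGroup.mk_inv]
      rw [← commutatorElement_def, commutatorElement_eq_one_iff_mul_comm]
      exact hKcomm _ (hQK hx) _ (hQK hy)
    have hsup : A ⊔ Q = K := by
      refine Subgroup.eq_of_le_of_card_ge (sup_le hAK hQK) ?_
      rw [H4.ManyClasses.card_sup_of_normalize (htop A Q) (hQc ▸ hcopA.symm), hQc, hKcard, mul_comm]
    by_cases hD : Q ≤ centralizer (A : Set Y)
    · exfalso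
      refine hright ⟨Q, ⟨fun x hx g => ?_⟩, hQc, hQcomm⟩
      have hxq : x ^ q ^ b = 1 := by
        have : (⟨x, hx⟩ : Q) ^ q ^ b = 1 := by rw [← hQc]; exact pow_card_eq_one'
        exact congrArg Subtype.val this
      have hmem : g * x * g⁻¹ ∈ ((A ⊔ Q : Subgroup Y) : Set Y) := by
        rw [hsup]; exact (inferInstance : K.Normal).conj_mem x (hQK hx) g
      rw [Subgroup.coe_mul_of_right_le_normalizer_left _ _ (htop A Q)] at hmem
      obtain ⟨c, hc, y, hy, hcy⟩ := hmem
      have hyq : y ^ q ^ b = 1 := by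
        have : (⟨y, hy⟩ : Q) ^ q ^ b = 1 := by rw [← hQc]; exact pow_card_eq_one'
        exact congrArg Subtype.val this
      have hcq : c ^ q ^ b = 1 := by
        have h := congrArg (· ^ q ^ b) hcy
        simp only [conj_pow, hxq, mul_one, mul_inv_cancel] at h
        rwa [Commute.mul_pow (show Commute c y from Subgroup.mem_centralizer_iff.1 (hD hy) c hc),
          hyq, mul_one] at h
      have hc1 : c = 1 := by
        rw [← orderOf_eq_one_iff]
        exact Nat.eq_one_of_dvd_coprimes hcopA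
          (orderOf_dvd_of_pow_eq_one hcq) (Subgroup.orderOf_dvd_natCard A hc)
      simp only at hcy
      rw [← hcy, hc1, one_mul]
      exact hy
    have hCn : (centralizer (A : Set Y)).Normal := Subgroup.normal_centralizer
    set D := Q ⊓ centralizer (A : Set Y) with hDdef
    have hPD : P ≤ normalizer (D : Set Y) := fun p hp => Subgroup.mem_normalizer_iff.2 fun z =>
      ⟨fun hz => ⟨(Subgroup.mem_normalizer_iff.1 (hQn hp) z).1 hz.1, hCn.conj_mem z hz.2 p⟩,
        fun hz => ⟨(Subgroup.mem_normalizer_iff.1 (hQn hp) z).2 hz.1, by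
          have := hCn.conj_mem _ hz.2 p⁻¹
          simpa [mul_assoc] using this⟩⟩
    have hDc : ¬ q ^ b ∣ Nat.card D := fun h => hD (by
      have hDQ : D = Q := Subgroup.eq_of_le_of_card_ge inf_le_left
        (hQc ▸ Nat.le_of_dvd Nat.card_pos h)
      intro x hx
      exact (hDQ ▸ hx : x ∈ D).2)
    have hDq : Nat.card D ∣ q ^ b := hQc ▸ Subgroup.card_dvd_of_le inf_le_left
    have hPDc : P ≤ centralizer (D : Set Y) := by
      refine centralize_of_pgroup P D hP hPD (fun h => ?_)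
        (h1.noOne (hDq.trans hqb) hDc) (l := q) ?_
      · exact hrq ((Nat.prime_dvd_prime_iff_eq hr.out hq).1 (hr.out.dvd_of_dvd_pow (h.trans hDq)))
      · exact (IsPGroup.of_card hQc).to_le inf_le_left
    have hPQ : P ≤ centralizer (Q : Set Y) := by
      intro p hp
      refine Subgroup.mem_centralizer_iff.2 fun x hx => ?_
      set d := p * x * p⁻¹ * x⁻¹ with hddef
      have hdQ : d ∈ Q :=
        Q.mul_mem ((Subgroup.mem_normalizer_iff.1 (hQn hp) x).1 hx) (Q.inv_mem hx)
      have hdD : d ∈ D := ⟨hdQ, by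
        rw [hddef, show p * x * p⁻¹ * x⁻¹ = p * (x * p⁻¹ * x⁻¹) by group]
        exact mul_mem (hPA hp) (hCn.conj_mem _ (inv_mem (hPA hp)) x)⟩
      have hdp : d * p = p * d := Subgroup.mem_centralizer_iff.1 (hPDc hp) d hdD
      have hpk : ∀ k : ℕ, p ^ k * x * (p ^ k)⁻¹ = d ^ k * x := by
        intro k
        induction k with
        | zero => simp
        | succ k ihk =>
          calc p ^ (k + 1) * x * (p ^ (k + 1))⁻¹ = p * (p ^ k * x * (p ^ k)⁻¹) * p⁻¹ := by
                rw [pow_succ']; group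
            _ = p * d ^ k * x * p⁻¹ := by rw [ihk]; group
            _ = d ^ k * (p * x * p⁻¹) := by
                rw [((Commute.pow_left hdp k : Commute (d ^ k) p)).eq.symm]; group
            _ = d ^ k * (d * x) := by rw [hddef]; simp [mul_assoc]
            _ = d ^ (k + 1) * x := by rw [pow_succ, ← mul_assoc]
      have hpr : p ^ r = 1 := by
        have : (⟨p, hp⟩ : P) ^ r = 1 := by rw [← hP]; exact pow_card_eq_one'
        exact congrArg Subtype.val this
      have hdr : d ^ r = 1 := by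
        have h := hpk r
        simp only [hpr, one_mul, inv_one, mul_one] at h
        exact mul_right_cancel (h.symm.trans (one_mul x).symm)
      have hd1 : d = 1 := by
        rw [← orderOf_eq_one_iff]
        exact Nat.eq_one_of_dvd_coprimes (((Nat.coprime_primes hr.out hq).2 hrq).pow_right b)
          (orderOf_dvd_of_pow_eq_one hdr) (hQc ▸ Subgroup.orderOf_dvd_natCard Q hdQ)
      exact (commutatorElement_eq_one_iff_mul_comm.1 hd1).symm
    rw [← hsup]
    exact Subgroup.le_centralizer_iff.1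
      (sup_le (Subgroup.le_centralizer_iff.1 hPA) (Subgroup.le_centralizer_iff.1 hPQ))
  refine hleft (lift_normal' K hrK hcK ?_)
  have hcK' : Nat.card K * Nat.card (Y ⧸ K) = Nat.card Y := by
    rw [← Subgroup.index_eq_card, Subgroup.card_mul_index]
  refine sylow_normal (not_dvd_card_quot hd hr.out hrK) (fun h => h2 (h.trans (card_quot_dvd K)))
    (h1.noOne (card_quot_dvd K) fun h => hqb' ?_) (.inl inferInstance)
  rw [← hcK', hKcard, pow_succ]
  exact mul_dvd_mul (dvd_mul_right _ _) ((dvd_pow_self q hb.ne').trans h)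

end H4.SmallOrder.Graph
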